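import Groth.Agent.Sga3.H802.MaxLift
import Groth.Agent.Sga3.H798.MaxTorCent

/-!
# Maximal tori over an artinian local ring, from the field case

`HasMax k` : every smooth quasi-compact group over the field `k` has a maximal torus.
-/

set_option autoImplicit false
universe u
open CategoryTheory MonoidalCategory CartesianMonoidalCategory MonObj AlgebraicGeometry Limits

namespace Groth.Agent.Sga3.H802.Main
open Groth.Agent.Sga3B Groth.Agent.Sga3.H798 Groth.Agent.Sga3.H802.SepArt

/-- Every smooth algebraic group over `k` has a maximal torus. -/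
def HasMax (k : Type u) [Field k] : Prop :=
  ∀ (G : Over (Spec (CommRingCat.of k))) [GrpObj G] [Smooth G.hom] [QuasiCompact G.hom],
    ∃ (T : Over (Spec (CommRingCat.of k))) (_ : GrpObj T) (i : T ⟶ G), Red.IsMaximalTorus i

section general

variable {S : Scheme.{u}}

/-- A maximal torus of the centralizer of a torus `R` is a maximal torus if it contains `R`. -/
theorem isMaximalTorus_comp {R T Z G : Over S} [GrpObj R] [GrpObj T] [GrpObj Z] [GrpObj G] (j : R ⟶ G)
    [IsMonHom j] (z : Z ⟶ G) (hz : Red.IsCentralizerOf j z) (i : T ⟶ Z) (hi : Red.IsMaximalTorus i)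
    (f : R ⟶ T) (hf : f ≫ i ≫ z = j) : Red.IsMaximalTorus (i ≫ z) := by
  obtain ⟨h1, h2, h3, h4⟩ := hi
  have h5 := hz.1
  have h6 := hz.2.1
  refine ⟨inferInstance, inferInstance, h3, fun s T' _ j₁ _ _ f₁ hT' hf₁ => ?_⟩
  have hz' := SplitBc264.isCentralizerOf_bc (Red.geomPt s) hz
  have h7 := hz'.1
  have h8 := hz'.2.1
  obtain ⟨j₂, hj₂⟩ := (hz'.2.2 T' j₁).2 fun X x t => by
    have e1 : t ≫ (Over.pullback (Red.geomPt s)).map j = (t ≫ (Over.pullback (Red.geomPt s)).map f ≫ f₁) ≫ j₁ := by
      rw [Category.assoc, Category.assoc, hf₁, ← Functor.map_comp, hf]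
    rw [e1, ← MonObj.mul_comp, ← MonObj.mul_comp, MaxTorNear900.mul_comm_of_isTorus hT']
  subst hj₂
  have h9 : IsMonHom j₂ := by
    refine InfConjFam.isMonHom_of_mul _ fun W d d' => ?_
    have e1 := MonObj.mul_comp d d' (j₂ ≫ (Over.pullback (Red.geomPt s)).map z)
    have e2 := MonObj.mul_comp (d ≫ j₂) (d' ≫ j₂) ((Over.pullback (Red.geomPt s)).map z)
    rw [← cancel_mono ((Over.pullback (Red.geomPt s)).map z), Category.assoc, e1, e2, Category.assoc, Category.assoc]
  have h10 : Mono j₂ := mono_of_mono j₂ ((Over.pullback (Red.geomPt s)).map z)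
  refine h4 s T' j₂ f₁ hT' ?_
  rw [← cancel_mono ((Over.pullback (Red.geomPt s)).map z), Category.assoc, hf₁, Functor.map_comp]

end general

variable {A : Type u} [CommRing A] [IsLocalRing A] [IsArtinianRing A]

theorem exists_maximalTorus (hA : HasMax (IsLocalRing.ResidueField A)) (G : Over (Spec (CommRingCat.of A)))
    [GrpObj G] [Smooth G.hom] [QuasiCompact G.hom] :
    ∃ (T : Over (Spec (CommRingCat.of A))) (_ : GrpObj T) (i : T ⟶ G), Red.IsMaximalTorus i := by
  have h1 : Smooth (Red.bc (res A) G).hom := inferInstanceAs (Smooth (pullback.snd _ _))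
  have h2 : QuasiCompact (Red.bc (res A) G).hom := inferInstanceAs (QuasiCompact (pullback.snd _ _))
  obtain ⟨T₀, _, i₀, h⟩ := hA (Red.bc (res A) G)
  exact MaxLift.exists_maximalTorus_lift i₀ h

theorem exists_maximalTorus_ge (hA : HasMax (IsLocalRing.ResidueField A)) (G : Over (Spec (CommRingCat.of A)))
    [GrpObj G] [Smooth G.hom] [QuasiCompact G.hom] (R : Over (Spec (CommRingCat.of A))) [GrpObj R] (j : R ⟶ G)
    [IsMonHom j] (hR : Red.IsTorus R) :
    ∃ (T : Over (Spec (CommRingCat.of A))) (_ : GrpObj T) (i : T ⟶ G) (f : R ⟶ T),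
        Red.IsMaximalTorus i ∧ f ≫ i = j := by
  have hsep : IsSeparated G.hom := isSeparated G
  obtain ⟨Z, _, z, hz, hzc, hsm, -⟩ := CentSep.exists_smooth_centralizer j hR
  have h3 := hz.1
  have h4 := hz.2.1
  have hqc : QuasiCompact Z.hom := by
    rw [← Over.w z]
    infer_instance
  obtain ⟨T, _, i, hi⟩ := exists_maximalTorus hA Z
  obtain ⟨j', hj'⟩ := (hz.2.2 R j).2 fun X x t => by
    rw [← MonObj.mul_comp, ← MonObj.mul_comp, MaxTorNear900.mul_comm_of_isTorus hR]
  have hj'm : IsMonHom j' := by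
    refine InfConjFam.isMonHom_of_mul _ fun W d d' => ?_
    have e1 := MonObj.mul_comp d d' j
    have e2 := MonObj.mul_comp (d ≫ j') (d' ≫ j') z
    rw [← cancel_mono z, Category.assoc, hj', e1, e2, Category.assoc, Category.assoc, hj']
  have hsepZ : IsSeparated Z.hom := isSeparated Z
  obtain ⟨f, hf⟩ := MaxTorCent.exists_factor_of_comm i hi j' hR fun X t r => by
    have h7 := (hz.2.2 X (t ≫ i ≫ z)).1 ⟨t ≫ i, by rw [Category.assoc]⟩ X (𝟙 X) r
    rw [Category.id_comp] at h7
    rw [← cancel_mono z, MonObj.mul_comp, MonObj.mul_comp, Category.assoc, Category.assoc, hj']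
    exact h7
  have hf' : f ≫ i ≫ z = j := by rw [← Category.assoc, hf, hj']
  exact ⟨T, inferInstance, i ≫ z, f, isMaximalTorus_comp j z hz i hi f hf', hf'⟩

end Groth.Agent.Sga3.H802.Main
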