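import Groth.Agent.Sga3.H802.HomFam
import Groth.Agent.Sga3B.IsomOpen832
import Groth.Agent.Sga3B.DSAff
import Groth.Agent.Sga3B.DsBc
import Groth.Agent.Sga3B.InfConjFam

/-!
# Lifting of families of homomorphisms `D_S(M) × Spec C → G` along nilpotent thickenings

`S` is any scheme, `x : Spec C ⟶ S`, `G` a smooth separated group scheme over `S` (not nec. affine) such that the
unit section of `G_C` has an affine open neighbourhood.

* `exists_lift_bc`, `eq_bc`: any group `E` over `S` with `E_C ≅ Spec D`, `D` with an invariant integral;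
* `exists_lift_DS`, `exists_conj_DS` : `E = D_S(M)`.
-/

set_option autoImplicit false
universe u
open CategoryTheory MonoidalCategory CartesianMonoidalCategory MonObj AlgebraicGeometry Limits
open scoped TensorProduct

namespace Groth.Agent.Sga3.H802.DSFam
open Groth.Agent.Sga3B Groth.Agent.Sga3B.InfConj Groth.Agent.Sga3B.InfConjFam Groth.Agent.Sga3.H802.HomFam
open Groth.Agent.Sga3B.IsomOpen832
open Groth.Agent.Books.AffBridge Groth.Agent.Sga3B.AffPts
open Groth.Agent.Sga3B.HaarDef (Haar)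

variable {C : Type u} [CommRing C] {S : Scheme.{u}} (x : Spec (CommRingCat.of C) ⟶ S)

lemma ker_mkA (I : Ideal C) : RingHom.ker (Ideal.Quotient.mkₐ C I) = I := Ideal.mk_ker

/-- `pt C C` seen over `S` -/
noncomputable def topIso : (Over.map x).obj (pt C C) ≅ Over.mk x :=
  Over.isoMk (Iso.refl _) (by
    simp only [Iso.refl_hom, Over.mk_hom, Over.map_obj_hom, Category.id_comp]
    rw [show (algebraMap C C) = RingHom.id C from rfl]
    erw [Spec.map_id, Category.id_comp])

lemma map_ptMap_topIso (I : Ideal C) :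
    (Over.map x).map (ptMap (Ideal.Quotient.mkₐ C I)) ≫ (topIso x).hom =
      (redMap x I : (Over.map x).obj (pt C (C ⧸ I)) ⟶ Over.mk x) := by
  ext1
  simp [topIso, redMap]
  rfl

lemma isHomFamily_whisker_iff {E G : Over S} [GrpObj E] [GrpObj G] {T T' : Over S} (i : T' ≅ T) (a : E ⊗ T ⟶ G) :
    AutFam.IsHomFamily E G ((E ◁ i.hom) ≫ a) ↔ AutFam.IsHomFamily E G a := by
  refine ⟨fun h => ?_, fun h => IsoFam.isHomFamily_pull h i.hom⟩
  have := IsoFam.isHomFamily_pull h i.inv
  rwa [← Category.assoc, ← MonoidalCategory.whiskerLeft_comp, Iso.inv_hom_id, MonoidalCategory.whiskerLeft_id,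
    Category.id_comp] at this

variable {E G : Over S} [GrpObj E] [GrpObj G]

/-- **Lifting of families of homomorphisms.** -/
theorem exists_lift_bc [Smooth G.hom] [IsSeparated G.hom] (hU : HasAffineUnitNhd (Red.bc x G))
    {D : Type u} [CommRing D] [Bialgebra C D] (e : Red.bc x E ≅ pt C D) (he : IsModel e) (ν : Haar C D)
    (I : Ideal C) (hI : IsNilpotent I)
    (a₀ : E ⊗ Over.mk (Spec.map (CommRingCat.ofHom (Ideal.Quotient.mk I)) ≫ x) ⟶ G)
    (h₀ : AutFam.IsHomFamily E G a₀) :
    ∃ a : E ⊗ Over.mk x ⟶ G, AutFam.IsHomFamily E G a ∧ (E ◁ redMap x I) ≫ a = a₀ := by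
  obtain ⟨B, j, hj, hj'⟩ := hU
  have : IsSeparated (Red.bc x G).hom := inferInstanceAs (IsSeparated (pullback.snd _ _))
  have : Smooth (Red.bc x G).hom := inferInstanceAs (Smooth (pullback.snd _ _))
  let a₀' : E ⊗ (Over.map x).obj (pt C (C ⧸ I)) ⟶ G := a₀
  have h₀' : AutFam.IsHomFamily E G a₀' := h₀
  obtain ⟨b, hb, hb'⟩ := exists_lift_family B j hj' e he (X := C) (Y := C ⧸ I) (π := Ideal.Quotient.mkₐ C I) ν
    (Ideal.Quotient.mkₐ_surjective C I) (by rwa [ker_mkA]) (isHomFamily_down x h₀')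
  refine ⟨(E ◁ (topIso x).inv) ≫ up x b, (isHomFamily_whisker_iff (topIso x).symm _).mpr (isHomFamily_up x hb), ?_⟩
  have h2 : redMap x I ≫ (topIso x).inv = (Over.map x).map (ptMap (Ideal.Quotient.mkₐ C I)) := by
    rw [Iso.comp_inv_eq, map_ptMap_topIso]
  rw [← Category.assoc, ← MonoidalCategory.whiskerLeft_comp, h2]
  exact (whisker_up x _ b).trans ((congrArg _ hb').trans (up_down x a₀'))

/-- A homomorphism out of `E` (with an invariant integral) which is trivial modulo a nilpotent ideal is trivial. -/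
theorem eq_one_bc [IsSeparated G.hom] (hU : HasAffineUnitNhd (Red.bc x G))
    {D : Type u} [CommRing D] [Bialgebra C D] (e : Red.bc x E ≅ pt C D) (he : IsModel e) (ν : Haar C D)
    (I : Ideal C) (hI : IsNilpotent I) (a : E ⊗ Over.mk x ⟶ G) (ha : AutFam.IsHomFamily E G a)
    (h : (E ◁ redMap x I) ≫ a = 1) : a = 1 := by
  obtain ⟨B, j, hj, hj'⟩ := hU
  have : IsSeparated (Red.bc x G).hom := inferInstanceAs (IsSeparated (pullback.snd _ _))
  let a' : E ⊗ (Over.map x).obj (pt C C) ⟶ G := (E ◁ (topIso x).hom) ≫ a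
  have ha' : AutFam.IsHomFamily E G a' := (isHomFamily_whisker_iff (topIso x) _).mpr ha
  have h1 : (Red.bc x E ◁ ptMap (Ideal.Quotient.mkₐ C I)) ≫ down x a' = 1 := by
    have h2 : ∀ (b : E ⊗ (Over.map x).obj (pt C C) ⟶ G), (Red.bc x E ◁ ptMap (Ideal.Quotient.mkₐ C I)) ≫ down x b =
        down x ((E ◁ (Over.map x).map (ptMap (Ideal.Quotient.mkₐ C I))) ≫ b) := by
      intro b
      conv_lhs => rw [← down_up x ((Red.bc x E ◁ ptMap (Ideal.Quotient.mkₐ C I)) ≫ down x b), ← whisker_up, up_down]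
    rw [h2]
    have h3 : (E ◁ (Over.map x).map (ptMap (Ideal.Quotient.mkₐ C I))) ≫ a' = 1 := by
      rw [← Category.assoc, ← MonoidalCategory.whiskerLeft_comp, map_ptMap_topIso]
      exact h
    rw [h3, down, MonObj.comp_one, BcPts.bcEquiv_one]
  have h4 := eq_one_family B j hj' e he (X := C) (Y := C ⧸ I) (π := Ideal.Quotient.mkₐ C I) ν
    (Ideal.Quotient.mkₐ_surjective C I) (by rwa [ker_mkA]) (isHomFamily_down x ha') h1
  have h5 : a' = 1 := by
    rw [← up_down x a', h4]
    apply ext_points x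
    intro X g t
    rw [lift_up, MonObj.comp_one, MonObj.comp_one]
    exact (BcPts.bcMulEquiv x X G).symm.map_one
  have h6 : a = (E ◁ (topIso x).inv) ≫ a' := by
    rw [← Category.assoc, ← MonoidalCategory.whiskerLeft_comp, Iso.inv_hom_id, MonoidalCategory.whiskerLeft_id,
      Category.id_comp]
  rw [h6, h5, MonObj.comp_one]

/-- The model of a split torus. -/
noncomputable def dsIsoOver (M : Type) [AddCommGroup M] :
    Red.bc x (Red.DS S M) ≅ SpecOver C (MonoidAlgebra C (Multiplicative M)) :=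
  RedIso.und (DsBc.constIso x (Red.diag (ULift.{u} ℤ) M)) ≪≫ asIso (DSAff.dsTo C M)

instance (M : Type) [AddCommGroup M] : IsMonHom (dsIsoOver x M).hom := by
  have h1 : IsMonHom (RedIso.und (DsBc.constIso x (Red.diag (ULift.{u} ℤ) M))).hom := inferInstance
  exact inferInstanceAs (IsMonHom ((RedIso.und (DsBc.constIso x (Red.diag (ULift.{u} ℤ) M))).hom ≫ DSAff.dsTo C M))

/-- The model of a split torus. -/
noncomputable def dsIso (M : Type) [AddCommGroup M] :
    Red.bc x (Red.DS S M) ≅ pt C (MonoidAlgebra C (Multiplicative M)) :=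
  dsIsoOver x M

lemma isModel_dsIso (M : Type) [AddCommGroup M] : IsModel (dsIso x M) :=
  isModel_of_isMonHom (dsIsoOver x M)

/-- **Lifting of families of homomorphisms `D_S(M) → G`** along nilpotent thickenings. -/
theorem exists_lift_DS [Smooth G.hom] [IsSeparated G.hom] (hU : HasAffineUnitNhd (Red.bc x G))
    (M : Type) [AddCommGroup M] (I : Ideal C) (hI : IsNilpotent I)
    (a₀ : Red.DS S M ⊗ Over.mk (Spec.map (CommRingCat.ofHom (Ideal.Quotient.mk I)) ≫ x) ⟶ G)
    (h₀ : AutFam.IsHomFamily (Red.DS S M) G a₀) :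
    ∃ a : Red.DS S M ⊗ Over.mk x ⟶ G, AutFam.IsHomFamily (Red.DS S M) G a ∧ (Red.DS S M ◁ redMap x I) ≫ a = a₀ :=
  exists_lift_bc x hU (dsIso x M) (isModel_dsIso x M) (HaarDef.haarMonoidAlgebra (Multiplicative M)) I hI a₀ h₀

end Groth.Agent.Sga3.H802.DSFam
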