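import Groth.Agent.Sga3B.HaarDef
import Mathlib.RingTheory.Bialgebra.Equiv
import Mathlib.RingTheory.QuasiFinite.Basic
import Mathlib.RingTheory.Unramified.LocalStructure
import Mathlib.RingTheory.Etale.Basic
import Mathlib.RingTheory.LocalRing.Module

/-!
# Invariant integrals: transport, descent; tori over an artinian local ring

* `haarOfEquiv`, `haarOfRetraction`;
* `exists_retraction`: `B` étale faithfully flat over the artinian local ring `R` has an `R`-linear
  `ρ : B → R` with `ρ 1 = 1`.
-/

set_option autoImplicit false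
open TensorProduct Coalgebra

namespace Groth.Agent.Sga3.H802.HaarBC
open Groth.Agent.Sga3B.HaarDef

variable {R : Type*} [CommRing R]

/-- Transport of an invariant integral along an isomorphism of bialgebras. -/
noncomputable def haarOfEquiv {D D' : Type*} [CommRing D] [Bialgebra R D] [CommRing D'] [Bialgebra R D']
    (e : D ≃ₐc[R] D') (ν : Haar R D') : Haar R D where
  int := ν.int ∘ₗ (e : D →ₗ[R] D')
  int_one := by
    simp [ν.int_one]
  inv d := by
    apply e.injective
    have h1 : ∀ z : D ⊗[R] D, e (TensorProduct.lid R D ((ν.int ∘ₗ (e : D →ₗ[R] D')).rTensor D z)) =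
        TensorProduct.lid R D' (ν.int.rTensor D' (TensorProduct.map (e : D →ₗ[R] D') (e : D →ₗ[R] D') z)) := by
      intro z
      induction z using TensorProduct.induction_on with
      | zero => simp
      | tmul a b => simp
      | add a b ha hb => simp only [map_add, ha, hb]
    change e (TensorProduct.lid R D ((ν.int ∘ₗ (e : D →ₗ[R] D')).rTensor D (comul (R := R) d))) =
      e (algebraMap R D (ν.int (e d)))
    rw [h1]
    have h2 : TensorProduct.map (e : D →ₗ[R] D') (e : D →ₗ[R] D') (comul (R := R) d) = comul (R := R) (e d) :=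
      CoalgHomClass.map_comp_comul_apply e d
    rw [h2, ν.inv]
    exact (AlgEquiv.commutes (e : D ≃ₐ[R] D') _).symm

variable {B D : Type*} [CommRing B] [Algebra R B] [CommRing D] [Bialgebra R D]

/-- Descent of an invariant integral along a ring map with a linear retraction. -/
noncomputable def haarOfRetraction (ν : Haar B (B ⊗[R] D)) (ρ : B →ₗ[R] R) (hρ : ρ 1 = 1) : Haar R D where
  int := ρ ∘ₗ (ν.int.restrictScalars R) ∘ₗ (TensorProduct.mk R B D 1)
  int_one := by
    have : ν.int (1 ⊗ₜ 1) = 1 := ν.int_one
    simp [this, hρ]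
  inv d := by
    have h1 : ∀ z : D ⊗[R] D,
      TensorProduct.lid R D ((ρ ∘ₗ (ν.int.restrictScalars R) ∘ₗ (TensorProduct.mk R B D 1)).rTensor D z) =
        TensorProduct.lid R D (ρ.rTensor D (((ν.int.restrictScalars R) ∘ₗ (TensorProduct.mk R B D 1)).rTensor D z)) := by
      intro z
      rw [← LinearMap.comp_apply (LinearMap.rTensor D ρ), ← LinearMap.rTensor_comp]
    rw [h1]
    have h2 : ∀ z : D ⊗[R] D, ((ν.int.restrictScalars R) ∘ₗ (TensorProduct.mk R B D 1)).rTensor D z =
      TensorProduct.lid B (B ⊗[R] D) (ν.int.rTensor (B ⊗[R] D)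
        (TensorProduct.AlgebraTensorModule.tensorTensorTensorComm R B R B B B D D ((1 ⊗ₜ 1) ⊗ₜ z))) := by
      intro z
      induction z using TensorProduct.induction_on with
      | zero => simp
      | tmul a b =>
        simp [TensorProduct.smul_tmul']
      | add a b ha hb => simp only [TensorProduct.tmul_add, map_add, ha, hb]
    have h3 : (TensorProduct.AlgebraTensorModule.tensorTensorTensorComm R B R B B B D D ((1 ⊗ₜ 1) ⊗ₜ comul (R := R) d)) =
        comul (R := B) ((1 : B) ⊗ₜ[R] d) := by
      rw [TensorProduct.comul_tmul]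
      rfl
    rw [h2, h3, ν.inv, Algebra.TensorProduct.algebraMap_apply, LinearMap.rTensor_tmul, TensorProduct.lid_tmul,
      Algebra.algebraMap_eq_smul_one, Algebra.algebraMap_eq_smul_one]
    congr 1
    rw [smul_eq_mul, mul_one]
    rfl

theorem exists_retraction (R B : Type*) [CommRing R] [CommRing B] [Algebra R B] [IsArtinianRing R] [IsLocalRing R]
    [Algebra.Etale R B] [Module.FaithfullyFlat R B] : ∃ ρ : B →ₗ[R] R, ρ 1 = 1 := by
  have h1 : Module.Finite R B := Module.Finite.of_quasiFinite
  have h2 : Module.Free R B := Module.free_of_flat_of_isLocalRing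
  let b := Module.Free.chooseBasis R B
  by_contra hcon
  push Not at hcon
  have h3 : ∀ i, b.repr 1 i ∈ IsLocalRing.maximalIdeal R := by
    intro i
    by_contra hi
    rw [IsLocalRing.mem_maximalIdeal, mem_nonunits_iff, not_not] at hi
    obtain ⟨c, hc⟩ := hi.exists_left_inv
    apply hcon (c • b.coord i)
    simpa using hc
  have h4 : (1 : B) ∈ (IsLocalRing.maximalIdeal R) • (⊤ : Submodule R B) := by
    rw [← b.sum_repr 1]
    exact Submodule.sum_mem _ fun i _ => Submodule.smul_mem_smul (h3 i) trivial
  have h5 : (IsLocalRing.maximalIdeal R) • (⊤ : Submodule R B) = ⊤ := by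
    rw [eq_top_iff]
    intro x _
    rw [Ideal.smul_top_eq_map] at h4 ⊢
    have : (Ideal.map (algebraMap R B) (IsLocalRing.maximalIdeal R)) = ⊤ := by
      rw [Ideal.eq_top_iff_one]; exact h4
    rw [this]; trivial
  exact (IsLocalRing.maximalIdeal.isMaximal R).ne_top
    (((Module.FaithfullyFlat.iff_flat_and_ideal_smul_eq_top R B).mp inferInstance).2 _ h5)

end Groth.Agent.Sga3.H802.HaarBC
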