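import Groth.Agent.Sga3B.InfConj
import Groth.Agent.Sga3B.HaarDef

/-!
# Averaging points of a non-affine group scheme

`G` is a separated group scheme over `Spec R` whose unit section has an affine open neighbourhood.
For an `R`-algebra `X` let `G(X)` be the group of morphisms `pt R X ⟶ G` over `Spec R`.
An *averaging datum* `Avg K₀ K₁` consists of an algebra map `inc : X₀ → X₁` and an `X₀`-linear retraction
`J : X₁ → X₀` mapping the square-zero ideal `K₁` to the square-zero ideal `K₀`.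
It gives `av : {y ∈ G(X₁), y ≡ 1 mod K₁} → {x ∈ G(X₀), x ≡ 1 mod K₀}`, a homomorphism which is
natural and compatible with conjugation by points of `G(X₀)`.

Abstract forms of `H¹ = 0` and `H² = 0`: `exists_conj_abstract`, `exists_hom_abstract`.
-/

set_option autoImplicit false
universe u
open CategoryTheory MonoidalCategory CartesianMonoidalCategory MonObj GrpObj AlgebraicGeometry Limits

namespace Groth.Agent.Sga3.H802.HaarPts
open Groth.Agent.Sga3B.InfConj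

variable {R : Type u} [CommRing R]

/-- An averaging datum. -/
structure Avg {X₀ X₁ : Type u} [CommRing X₀] [CommRing X₁] [Algebra R X₀] [Algebra R X₁]
    (K₀ : Ideal X₀) (K₁ : Ideal X₁) where
  /-- the inclusion of constants -/
  inc : X₀ →ₐ[R] X₁
  /-- integration -/
  J : X₁ →ₗ[R] X₀
  J_mul : ∀ x z, J (inc x * z) = x * J z
  J_inc : ∀ x, J (inc x) = x
  sq₀ : K₀ * K₀ = ⊥
  sq₁ : K₁ * K₁ = ⊥
  J_mem : ∀ z ∈ K₁, J z ∈ K₀

namespace Avg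

variable {X₀ X₁ : Type u} [CommRing X₀] [CommRing X₁] [Algebra R X₀] [Algebra R X₁]
  {K₀ : Ideal X₀} {K₁ : Ideal X₁} (A : Avg (R := R) K₀ K₁)

/-- The subalgebra `X₀ + K₁` of `X₁`. -/
def sub : Subalgebra R X₁ where
  carrier := {b | ∃ x : X₀, b - A.inc x ∈ K₁}
  mul_mem' := by
    rintro a b ⟨c, hc⟩ ⟨d, hd⟩
    refine ⟨c * d, ?_⟩
    have : a * b - A.inc (c * d) = a * (b - A.inc d) + A.inc d * (a - A.inc c) := by
      rw [map_mul]; ring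
    rw [this]
    exact K₁.add_mem (K₁.mul_mem_left _ hd) (K₁.mul_mem_left _ hc)
  add_mem' := by
    rintro a b ⟨c, hc⟩ ⟨d, hd⟩
    refine ⟨c + d, ?_⟩
    have : a + b - A.inc (c + d) = (b - A.inc d) + (a - A.inc c) := by
      rw [map_add]; ring
    rw [this]
    exact K₁.add_mem hd hc
  algebraMap_mem' r := ⟨algebraMap R X₀ r, by simp⟩

lemma mem_sub {b : X₁} : b ∈ A.sub ↔ ∃ x : X₀, b - A.inc x ∈ K₁ := Iff.rfl

lemma inc_mem_sub (x : X₀) : A.inc x ∈ A.sub := ⟨x, by simp⟩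

/-- the averaging homomorphism `X₀ + K₁ → X₀` -/
def hom : A.sub →ₐ[R] X₀ :=
  AlgHom.ofLinearMap (A.J.comp A.sub.val.toLinearMap)
    (by
      have := A.J_inc 1
      rw [map_one] at this
      simpa using this)
    (by
      rintro ⟨a, c, hc⟩ ⟨b, d, hd⟩
      change A.J (a * b) = A.J a * A.J b
      obtain ⟨x, rfl⟩ : ∃ x, a = A.inc c + x := ⟨a - A.inc c, by ring⟩
      obtain ⟨y, rfl⟩ : ∃ y, b = A.inc d + y := ⟨b - A.inc d, by ring⟩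
      rw [add_sub_cancel_left] at hc hd
      have hxy : x * y = 0 := by
        have := Ideal.mul_mem_mul hc hd
        rw [A.sq₁] at this
        simpa using this
      have hJ : A.J x * A.J y = 0 := by
        have := Ideal.mul_mem_mul (A.J_mem _ hc) (A.J_mem _ hd)
        rw [A.sq₀] at this
        simpa using this
      have h1 : (A.inc c + x) * (A.inc d + y) = A.inc (c * d) + A.inc c * y + A.inc d * x := by
        rw [map_mul]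
        linear_combination hxy
      rw [h1]
      simp only [map_add, A.J_mul, A.J_inc]
      linear_combination - hJ)

lemma hom_apply (x : A.sub) : A.hom x = A.J x.1 := rfl

/-- the constants -/
def incSub : X₀ →ₐ[R] A.sub := A.inc.codRestrict A.sub A.inc_mem_sub

lemma hom_comp_incSub : A.hom.comp A.incSub = AlgHom.id R X₀ := by
  ext x
  exact A.J_inc x

lemma val_comp_incSub : A.sub.val.comp A.incSub = A.inc := by
  ext x
  rfl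

end Avg

section pts

variable (G : Over (Spec (CommRingCat.of R))) [GrpObj G]

/-- `x ∈ G(X)` is trivial modulo the ideal `K` of `X`. -/
def IsInf {X : Type u} [CommRing X] [Algebra R X] (K : Ideal X) (x : pt R X ⟶ G) : Prop :=
  ptMap (Ideal.Quotient.mkₐ R K) ≫ x = 1

variable {G}

lemma ptMap_one {X Y : Type u} [CommRing X] [CommRing Y] [Algebra R X] [Algebra R Y] (h : X →ₐ[R] Y) :
    ptMap h ≫ (1 : pt R X ⟶ G) = 1 := MonObj.comp_one _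

/-- A point killed by a map with kernel `K` is trivial modulo `K`. -/
lemma isInf_of_map {X Y : Type u} [CommRing X] [CommRing Y] [Algebra R X] [Algebra R Y] (h : X →ₐ[R] Y)
    (hh : Function.Surjective h) {x : pt R X ⟶ G} (hx : ptMap h ≫ x = 1) :
    IsInf G (RingHom.ker h) x := by
  let e : (X ⧸ RingHom.ker h) ≃ₐ[R] Y := Ideal.quotientKerAlgEquivOfSurjective hh
  have h1 : Ideal.Quotient.mkₐ R (RingHom.ker h) = (e.symm : Y →ₐ[R] _).comp h := by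
    ext z
    change _ = e.symm (h z)
    rw [AlgEquiv.eq_symm_apply]
    rfl
  unfold IsInf
  rw [h1, ← ptMap_comp, Category.assoc, hx, MonObj.comp_one]

lemma IsInf.map_eq_one {X Y : Type u} [CommRing X] [CommRing Y] [Algebra R X] [Algebra R Y] {K : Ideal X}
    {x : pt R X ⟶ G} (hx : IsInf G K x) (h : X →ₐ[R] Y) (hh : ∀ k ∈ K, h k = 0) : ptMap h ≫ x = 1 := by
  have h1 : h = (Ideal.Quotient.liftₐ K h hh).comp (Ideal.Quotient.mkₐ R K) := by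
    ext z; rfl
  rw [h1, ← ptMap_comp, Category.assoc, hx, MonObj.comp_one]

lemma IsInf.mul {X : Type u} [CommRing X] [Algebra R X] {K : Ideal X} {x y : pt R X ⟶ G}
    (hx : IsInf G K x) (hy : IsInf G K y) : IsInf G K (x * y) := by
  unfold IsInf at *
  rw [MonObj.comp_mul, hx, hy, _root_.mul_one]

lemma IsInf.inv {X : Type u} [CommRing X] [Algebra R X] {K : Ideal X} {x : pt R X ⟶ G}
    (hx : IsInf G K x) : IsInf G K x⁻¹ := by
  unfold IsInf at *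
  rw [GrpObj.comp_inv, hx, inv_one]

lemma IsInf.conj {X : Type u} [CommRing X] [Algebra R X] {K : Ideal X} {x : pt R X ⟶ G}
    (hx : IsInf G K x) (g : pt R X ⟶ G) : IsInf G K (g * x * g⁻¹) := by
  unfold IsInf at *
  rw [MonObj.comp_mul, MonObj.comp_mul, GrpObj.comp_inv, hx, _root_.mul_one, mul_inv_cancel]

lemma IsInf.map {X Y : Type u} [CommRing X] [CommRing Y] [Algebra R X] [Algebra R Y] {K : Ideal X}
    {L : Ideal Y} {x : pt R X ⟶ G} (hx : IsInf G K x) (h : X →ₐ[R] Y) (hh : ∀ k ∈ K, h k ∈ L) :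
    IsInf G L (ptMap h ≫ x) := by
  have := hx.map_eq_one ((Ideal.Quotient.mkₐ R L).comp h)
    (fun k hk => Ideal.Quotient.eq_zero_iff_mem.mpr (hh k hk))
  unfold IsInf
  rwa [← Category.assoc, ptMap_comp]

/-- Points with values in a subalgebra are determined by their image. -/
lemma ptMap_injective [IsSeparated G.hom] {X Y : Type u} [CommRing X] [CommRing Y] [Algebra R X] [Algebra R Y]
    (h : X →ₐ[R] Y) (hh : Function.Injective h) {x y : pt R X ⟶ G} (hxy : ptMap h ≫ x = ptMap h ≫ y) :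
    x = y := by
  ext1
  refine ext_of_ker_eq_bot G.hom ((Over.w _).trans (Over.w _).symm) (ptMap h).left (ker_specMap _ hh) ?_
  rw [← Over.comp_left, ← Over.comp_left, hxy]

end pts

section av

variable {G : Over (Spec (CommRingCat.of R))} [GrpObj G]
variable {X₀ X₁ : Type u} [CommRing X₀] [CommRing X₁] [Algebra R X₀] [Algebra R X₁]
  {K₀ : Ideal X₀} {K₁ : Ideal X₁} (A : Avg (R := R) K₀ K₁)

/-- `y ∈ G(X₁)` comes from `G(X₀ + K₁)`. -/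
def Avg.Fac (y : pt R X₁ ⟶ G) : Prop := ∃ z : pt R A.sub ⟶ G, ptMap A.sub.val ≫ z = y

open Classical in
/-- The average of a point which comes from `G(X₀ + K₁)`. -/
noncomputable def Avg.av (y : pt R X₁ ⟶ G) : pt R X₀ ⟶ G :=
  ptMap A.hom ≫ (if h : A.Fac y then h.choose else 1)

lemma Avg.av_eq [IsSeparated G.hom] (z : pt R A.sub ⟶ G) :
    A.av (ptMap A.sub.val ≫ z) = ptMap A.hom ≫ z := by
  have h : A.Fac (ptMap A.sub.val ≫ z) := ⟨z, rfl⟩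
  unfold Avg.av
  rw [dif_pos h]
  congr 1
  exact ptMap_injective A.sub.val Subtype.val_injective h.choose_spec

lemma Avg.Fac.mul {x y : pt R X₁ ⟶ G} (hx : A.Fac x) (hy : A.Fac y) : A.Fac (x * y) := by
  obtain ⟨x', rfl⟩ := hx
  obtain ⟨y', rfl⟩ := hy
  exact ⟨x' * y', by rw [MonObj.comp_mul]⟩

lemma Avg.Fac.inv {x : pt R X₁ ⟶ G} (hx : A.Fac x) : A.Fac x⁻¹ := by
  obtain ⟨x', rfl⟩ := hx
  exact ⟨x'⁻¹, by rw [GrpObj.comp_inv]⟩

lemma Avg.fac_inc (x : pt R X₀ ⟶ G) : A.Fac (ptMap A.inc ≫ x) := by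
  refine ⟨ptMap A.incSub ≫ x, ?_⟩
  rw [← Category.assoc, ptMap_comp, A.val_comp_incSub]

lemma Avg.av_mul [IsSeparated G.hom] {x y : pt R X₁ ⟶ G} (hx : A.Fac x) (hy : A.Fac y) :
    A.av (x * y) = A.av x * A.av y := by
  obtain ⟨x', rfl⟩ := hx
  obtain ⟨y', rfl⟩ := hy
  rw [← MonObj.comp_mul, A.av_eq, A.av_eq, A.av_eq, MonObj.comp_mul]

lemma Avg.av_inv [IsSeparated G.hom] {x : pt R X₁ ⟶ G} (hx : A.Fac x) :
    A.av x⁻¹ = (A.av x)⁻¹ := by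
  obtain ⟨x', rfl⟩ := hx
  rw [← GrpObj.comp_inv, A.av_eq, A.av_eq, GrpObj.comp_inv]

lemma Avg.av_inc [IsSeparated G.hom] (x : pt R X₀ ⟶ G) : A.av (ptMap A.inc ≫ x) = x := by
  have h1 : ptMap A.inc ≫ x = ptMap A.sub.val ≫ ptMap A.incSub ≫ x := by
    rw [← Category.assoc, ptMap_comp, A.val_comp_incSub]
  rw [h1, A.av_eq, ← Category.assoc, ptMap_comp, A.hom_comp_incSub, ptMap_id, Category.id_comp]

variable (D : CommRingCat.{u}) (j : Spec D ⟶ G.left) [IsOpenImmersion j]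
    (hj : Set.range η[G].left ⊆ Set.range j)

include hj in
lemma Avg.exists_fac {y : pt R X₁ ⟶ G} (hy : IsInf G K₁ y) :
    ∃ z : pt R A.sub ⟶ G, ptMap A.sub.val ≫ z = y ∧ IsInf G K₀ (ptMap A.hom ≫ z) := by
  obtain ⟨z, hz1, hz2⟩ := exists_lift G D j hj K₁ A.sq₁ y hy A.sub (by
    intro c e he
    refine ⟨algebraMap R X₀ c, ?_⟩
    rwa [AlgHom.commutes])
  refine ⟨z, hz1, ?_⟩
  unfold IsInf
  rw [← Category.assoc, ptMap_comp]
  apply hz2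
  intro c e he
  change Ideal.Quotient.mk K₀ (A.J e.1) = _
  have h1 := A.J_mem _ he
  have h2 : A.J (algebraMap R X₁ c) = algebraMap R X₀ c := by
    rw [← AlgHom.commutes A.inc, A.J_inc]
  rw [map_sub, h2] at h1
  exact Ideal.Quotient.eq.mpr h1

include hj in
lemma Avg.fac_of_isInf {y : pt R X₁ ⟶ G} (hy : IsInf G K₁ y) : A.Fac y := by
  obtain ⟨z, hz, -⟩ := A.exists_fac D j hj hy
  exact ⟨z, hz⟩

include hj in
lemma Avg.isInf_av [IsSeparated G.hom] {y : pt R X₁ ⟶ G} (hy : IsInf G K₁ y) : IsInf G K₀ (A.av y) := by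
  obtain ⟨z, rfl, hz⟩ := A.exists_fac D j hj hy
  rwa [A.av_eq]

/-- Naturality of averages. -/
lemma Avg.av_map [IsSeparated G.hom] {X₀' X₁' : Type u} [CommRing X₀'] [CommRing X₁'] [Algebra R X₀']
    [Algebra R X₁'] {K₀' : Ideal X₀'} {K₁' : Ideal X₁'} (A' : Avg (R := R) K₀' K₁')
    (φ₀ : X₀ →ₐ[R] X₀') (φ₁ : X₁ →ₐ[R] X₁') (hi : ∀ x, φ₁ (A.inc x) = A'.inc (φ₀ x))
    (hJ : ∀ z, A'.J (φ₁ z) = φ₀ (A.J z)) (hK : ∀ z ∈ K₁, φ₁ z ∈ K₁') {y : pt R X₁ ⟶ G} (hy : A.Fac y) :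
    A'.Fac (ptMap φ₁ ≫ y) ∧ A'.av (ptMap φ₁ ≫ y) = ptMap φ₀ ≫ A.av y := by
  obtain ⟨z, rfl⟩ := hy
  let φ : A.sub →ₐ[R] A'.sub := (φ₁.comp A.sub.val).codRestrict A'.sub (by
    rintro ⟨b, x, hb⟩
    refine ⟨φ₀ x, ?_⟩
    have := hK _ hb
    rwa [map_sub, hi] at this)
  have h1 : ptMap φ₁ ≫ ptMap A.sub.val = ptMap A'.sub.val ≫ ptMap φ := by
    rw [ptMap_comp, ptMap_comp]
    rfl
  have h2 : ptMap A'.hom ≫ ptMap φ = ptMap φ₀ ≫ ptMap A.hom := by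
    rw [ptMap_comp, ptMap_comp]
    congr 1
    ext b
    exact hJ b.1
  refine ⟨⟨ptMap φ ≫ z, ?_⟩, ?_⟩
  · rw [← Category.assoc, ← h1, Category.assoc]
  · rw [← Category.assoc, h1, Category.assoc, A'.av_eq, A.av_eq, ← Category.assoc, h2, Category.assoc]

end av

section abstractForms

variable {G : Over (Spec (CommRingCat.of R))} [GrpObj G] [IsSeparated G.hom]
  (D : CommRingCat.{u}) (j : Spec D ⟶ G.left) [IsOpenImmersion j]
    (hj : Set.range η[G].left ⊆ Set.range j)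
variable {X₀ X₁ X₂ X₃ : Type u} [CommRing X₀] [CommRing X₁] [CommRing X₂] [CommRing X₃]
  [Algebra R X₀] [Algebra R X₁] [Algebra R X₂] [Algebra R X₃]
  {K₀ : Ideal X₀} {K₁ : Ideal X₁} {K₂ : Ideal X₂} {K₃ : Ideal X₃}

include hj in
/-- Abstract form of `H¹ = 0`. `p₁`, `p₂ = A₁.inc`, `m` are the projections and the multiplication. -/
theorem exists_conj_abstract (A₀ : Avg (R := R) K₀ K₁) (A₁ : Avg (R := R) K₁ K₂)
    (p₁ m : X₁ →ₐ[R] X₂)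
    (hp₁i : ∀ x, p₁ (A₀.inc x) = A₁.inc (A₀.inc x)) (hmi : ∀ x, m (A₀.inc x) = A₁.inc (A₀.inc x))
    (hJ1 : ∀ x, A₁.J (p₁ x) = A₀.inc (A₀.J x)) (hJm : ∀ x, A₁.J (m x) = A₀.inc (A₀.J x))
    (hp1 : ∀ x ∈ K₁, p₁ x ∈ K₂) (hm : ∀ x ∈ K₁, m x ∈ K₂)
    (F F' : pt R X₁ ⟶ G) (hF : (ptMap p₁ ≫ F) * (ptMap A₁.inc ≫ F) = ptMap m ≫ F)
    (hF' : (ptMap p₁ ≫ F') * (ptMap A₁.inc ≫ F') = ptMap m ≫ F') (hFF : IsInf G K₁ (F⁻¹ * F')) :
    ∃ g : pt R X₀ ⟶ G, IsInf G K₀ g ∧ F' = (ptMap A₀.inc ≫ g) * F * (ptMap A₀.inc ≫ g)⁻¹ := by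
  set c := F⁻¹ * F' with hc
  have hcf : A₀.Fac c := A₀.fac_of_isInf D j hj hFF
  have h1 : ptMap m ≫ c = (ptMap A₁.inc ≫ F)⁻¹ * (ptMap p₁ ≫ c) * (ptMap A₁.inc ≫ F) * (ptMap A₁.inc ≫ c) := by
    rw [hc]
    simp only [MonObj.comp_mul, GrpObj.comp_inv]
    rw [← hF, ← hF']
    group
  obtain ⟨f1, e1⟩ := A₀.av_map A₁ A₀.inc m hmi hJm hm hcf
  obtain ⟨f2, e2⟩ := A₀.av_map A₁ A₀.inc p₁ hp₁i hJ1 hp1 hcf
  have h2 := congrArg A₁.av h1
  rw [A₁.av_mul (((A₁.fac_inc F).inv.mul _ f2).mul _ (A₁.fac_inc F)) (A₁.fac_inc c),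
    A₁.av_mul ((A₁.fac_inc F).inv.mul _ f2) (A₁.fac_inc F), A₁.av_mul (A₁.fac_inc F).inv f2,
    A₁.av_inv (A₁.fac_inc F), A₁.av_inc, A₁.av_inc, e1, e2] at h2
  set g := A₀.av c with hg
  set γ := ptMap A₀.inc ≫ g with hγ
  refine ⟨g⁻¹, (A₀.isInf_av D j hj hFF).inv, ?_⟩
  rw [GrpObj.comp_inv, ← hγ]
  have h3 : F' = F * c := by rw [hc]; group
  have h4 : c = (F⁻¹ * γ * F)⁻¹ * γ := by
    rw [eq_inv_mul_iff_mul_eq]
    exact h2.symm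
  rw [h3, h4]
  group

include hj in
/-- Abstract form of `H² = 0`. -/
theorem exists_hom_abstract (A₁ : Avg (R := R) K₁ K₂) (A₂ : Avg (R := R) K₂ K₃)
    (p₁ p₂ m : X₁ →ₐ[R] X₂) (q₁ q₃ q₄ : X₂ →ₐ[R] X₃)
    (c1 : q₁.comp m = q₃.comp m) (c2 : q₁.comp p₁ = q₄.comp p₁) (c3 : q₁.comp p₂ = A₂.inc.comp m)
    (c4 : q₃.comp p₁ = q₄.comp m) (c5 : q₃.comp p₂ = A₂.inc.comp p₂) (c6 : q₄.comp p₂ = A₂.inc.comp p₁)
    (hi1 : ∀ x, q₁ (A₁.inc x) = A₂.inc (m x)) (hi3 : ∀ x, q₃ (A₁.inc x) = A₂.inc (p₂ x))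
    (hi4 : ∀ x, q₄ (A₁.inc x) = A₂.inc (p₁ x))
    (hJ1 : ∀ x, A₂.J (q₁ x) = m (A₁.J x)) (hJ3 : ∀ x, A₂.J (q₃ x) = p₂ (A₁.J x))
    (hJ4 : ∀ x, A₂.J (q₄ x) = p₁ (A₁.J x))
    (hq1 : ∀ x ∈ K₂, q₁ x ∈ K₃) (hq3 : ∀ x ∈ K₂, q₃ x ∈ K₃) (hq4 : ∀ x ∈ K₂, q₄ x ∈ K₃)
    (φ : pt R X₁ ⟶ G)
    (hφ : IsInf G K₂ ((ptMap m ≫ φ)⁻¹ * (ptMap p₁ ≫ φ) * (ptMap p₂ ≫ φ))) :
    ∃ b : pt R X₁ ⟶ G, IsInf G K₁ b ∧
      (ptMap p₁ ≫ (φ * b)) * (ptMap p₂ ≫ (φ * b)) = ptMap m ≫ (φ * b) := by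
  set Φ1 := ptMap p₁ ≫ φ with hΦ1
  set Φ2 := ptMap p₂ ≫ φ with hΦ2
  set Φ12 := ptMap m ≫ φ with hΦ12
  set c := Φ12⁻¹ * Φ1 * Φ2 with hc
  have hcf : A₁.Fac c := A₁.fac_of_isInf D j hj hφ
  set φ3 := ptMap A₂.inc ≫ Φ2 with hφ3
  have a1 : ptMap q₁ ≫ Φ12 = ptMap q₃ ≫ Φ12 := by
    rw [hΦ12, ← Category.assoc, ← Category.assoc, ptMap_comp, ptMap_comp, c1]
  have a2 : ptMap q₁ ≫ Φ1 = ptMap q₄ ≫ Φ1 := by
    rw [hΦ1, ← Category.assoc, ← Category.assoc, ptMap_comp, ptMap_comp, c2]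
  have a3 : ptMap q₁ ≫ Φ2 = ptMap A₂.inc ≫ Φ12 := by
    rw [hΦ2, hΦ12, ← Category.assoc, ← Category.assoc, ptMap_comp, ptMap_comp, c3]
  have a4 : ptMap q₃ ≫ Φ1 = ptMap q₄ ≫ Φ12 := by
    rw [hΦ1, hΦ12, ← Category.assoc, ← Category.assoc, ptMap_comp, ptMap_comp, c4]
  have a5 : ptMap q₃ ≫ Φ2 = φ3 := by
    rw [hφ3, hΦ2, ← Category.assoc, ← Category.assoc, ptMap_comp, ptMap_comp, c5]
  have a6 : ptMap q₄ ≫ Φ2 = ptMap A₂.inc ≫ Φ1 := by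
    rw [hΦ1, hΦ2, ← Category.assoc, ← Category.assoc, ptMap_comp, ptMap_comp, c6]
  have e1 : (ptMap q₁ ≫ c) * (ptMap A₂.inc ≫ c) = (ptMap q₃ ≫ c) * (φ3⁻¹ * (ptMap q₄ ≫ c) * φ3) := by
    rw [hc]
    simp only [MonObj.comp_mul, GrpObj.comp_inv]
    rw [a1, a2, a3, a4, a5, a6, ← hφ3]
    group
  obtain ⟨f1, e2⟩ := A₁.av_map A₂ m q₁ hi1 hJ1 hq1 hcf
  obtain ⟨f3, e3⟩ := A₁.av_map A₂ p₂ q₃ hi3 hJ3 hq3 hcf
  obtain ⟨f4, e4⟩ := A₁.av_map A₂ p₁ q₄ hi4 hJ4 hq4 hcf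
  have hf3 : A₂.Fac φ3 := A₂.fac_inc _
  have e5 := congrArg A₂.av e1
  rw [A₂.av_mul f1 (A₂.fac_inc c), A₂.av_mul f3 ((hf3.inv.mul _ f4).mul _ hf3),
    A₂.av_mul (hf3.inv.mul _ f4) hf3, A₂.av_mul hf3.inv f4, A₂.av_inv hf3, hφ3, A₂.av_inc, A₂.av_inc,
    e2, e3, e4] at e5
  set b := A₁.av c with hb
  refine ⟨b⁻¹, (A₁.isInf_av D j hj hφ).inv, ?_⟩
  simp only [MonObj.comp_mul, GrpObj.comp_inv]
  rw [← hΦ1, ← hΦ2, ← hΦ12]
  set b1 := ptMap p₁ ≫ b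
  set b2 := ptMap p₂ ≫ b
  set b12 := ptMap m ≫ b
  have h7 : Φ1 * Φ2 = Φ12 * c := by rw [hc]; group
  have h8 : c = b12⁻¹ * (b2 * (Φ2⁻¹ * b1 * Φ2)) := by
    rw [← e5]; group
  have h9 : Φ12 * b12⁻¹ = Φ1 * Φ2 * (b2 * (Φ2⁻¹ * b1 * Φ2))⁻¹ := by
    rw [h7, h8]; group
  rw [h9]
  group

end abstractForms

end Groth.Agent.Sga3.H802.HaarPts
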