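import Groth.Agent.Sga3.H802.HaarHom
import Groth.Agent.Sga3B.IsoFam
import Groth.Agent.Sga3B.AffPts

/-!
# Families of homomorphisms out of a linearly reductive affine group

`E ≅ Spec D` a group over `Spec R` with a normalised invariant integral `ν : HaarDef.Haar R D`, `X` an `R`-algebra,
`G` a group scheme over `Spec R`. Families `E ⊗ pt R X ⟶ G` correspond to points `pt R (D ⊗[R] X) ⟶ G`
(`famOf`, `toPt`), families of homomorphisms to `IsHomPt` points (`isHomFamily_iff`). Consequences: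

* `exists_lift_family`, `exists_conj_family`, `eq_one_family`.
-/

set_option autoImplicit false
universe u
open CategoryTheory MonoidalCategory CartesianMonoidalCategory MonObj AlgebraicGeometry Limits
open scoped TensorProduct

namespace Groth.Agent.Sga3.H802.HomFam
open Groth.Agent.Sga3B.InfConj Groth.Agent.Sga3.H802.HaarPts Groth.Agent.Sga3.H802.HaarHom
open Groth.Agent.Books.AffBridge Groth.Agent.Sga3B.AffPts
open Groth.Agent.Sga3B.HaarDef hiding exists_conj_abstract exists_hom_abstract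

local notation "cst" => Groth.Agent.Sga3B.HaarDef.«ι»

variable {R : Type u} [CommRing R]

section pts

variable {A : Type u} [CommRing A] [Algebra R A]

/-- the point of `Spec A` attached to an algebra map -/
noncomputable def ofFn {W : Over (Spec (CommRingCat.of R))} (g : A →ₐ[R] Fn W) : W ⟶ pt R A := affPt W g

/-- the algebra map of a point -/
noncomputable def fnOf {W : Over (Spec (CommRingCat.of R))} (t : W ⟶ pt R A) : A →ₐ[R] Fn W :=
  (Equiv.ofBijective _ (affPt_bijective W)).symm t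

@[simp] lemma ofFn_fnOf {W : Over (Spec (CommRingCat.of R))} (t : W ⟶ pt R A) : ofFn (fnOf t) = t :=
  (Equiv.ofBijective _ (affPt_bijective W)).apply_symm_apply t

@[simp] lemma fnOf_ofFn {W : Over (Spec (CommRingCat.of R))} (g : A →ₐ[R] Fn W) : fnOf (ofFn g) = g :=
  (Equiv.ofBijective _ (affPt_bijective W)).symm_apply_apply g

lemma fnOf_injective {W : Over (Spec (CommRingCat.of R))} {t t' : W ⟶ pt R A} (h : fnOf t = fnOf t') : t = t' := by
  rw [← ofFn_fnOf t, h, ofFn_fnOf]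

lemma ofFn_injective {W : Over (Spec (CommRingCat.of R))} {t t' : A →ₐ[R] Fn W} (h : ofFn t = ofFn t') : t = t' := by
  rw [← fnOf_ofFn t, h, fnOf_ofFn]

lemma comp_ofFn {W W' : Over (Spec (CommRingCat.of R))} (h : W' ⟶ W) (g : A →ₐ[R] Fn W) :
    h ≫ ofFn g = ofFn ((fnMap h).comp g) := comp_affPt h g

lemma fnOf_comp {W W' : Over (Spec (CommRingCat.of R))} (h : W' ⟶ W) (t : W ⟶ pt R A) :
    fnOf (h ≫ t) = (fnMap h).comp (fnOf t) := by
  apply ofFn_injective
  rw [ofFn_fnOf, ← comp_ofFn, ofFn_fnOf]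

lemma ofFn_ptMap {B : Type u} [CommRing B] [Algebra R B] {W : Over (Spec (CommRingCat.of R))}
    (g : B →ₐ[R] Fn W) (f : A →ₐ[R] B) : ofFn g ≫ ptMap f = ofFn (g.comp f) :=
  affPt_specMap W g f

lemma fnOf_ptMap {B : Type u} [CommRing B] [Algebra R B] {W : Over (Spec (CommRingCat.of R))}
    (t : W ⟶ pt R B) (f : A →ₐ[R] B) :
    fnOf (t ≫ ptMap f) = (fnOf t).comp f := by
  apply ofFn_injective
  rw [ofFn_fnOf, ← ofFn_ptMap, ofFn_fnOf]

/-- `e` identifies the group `E` with the spectrum of the bialgebra `D`. -/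
def IsModel {E : Over (Spec (CommRingCat.of R))} [GrpObj E] {D : Type u} [CommRing D] [Bialgebra R D]
    (e : E ≅ pt R D) : Prop :=
  ∀ (W : Over (Spec (CommRingCat.of R))) (x y : W ⟶ E), fnOf ((x * y) ≫ e.hom) =
    (WithConv.toConv (fnOf (x ≫ e.hom)) * WithConv.toConv (fnOf (y ≫ e.hom))).ofConv

lemma isModel_of_isMonHom {E : Over (Spec (CommRingCat.of R))} [GrpObj E] {D : Type u} [CommRing D]
    [HopfAlgebra R D] (e : E ≅ SpecOver R D) [IsMonHom e.hom] :
    IsModel (R := R) (D := D) (E := E) e := by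
  intro W x y
  apply ofFn_injective
  have h1 : (x * y) ≫ e.hom = (x ≫ e.hom) * (y ≫ e.hom) := MonObj.mul_comp _ _ _
  rw [ofFn_fnOf]
  refine h1.trans ((?_ : _ = _).trans (affPt_mul W (WithConv.toConv (fnOf (x ≫ e.hom)))
    (WithConv.toConv (fnOf (y ≫ e.hom)))).symm)
  congr 1
  · exact (ofFn_fnOf (A := D) (x ≫ e.hom)).symm
  · exact (ofFn_fnOf (A := D) (y ≫ e.hom)).symm

end pts

section pair

variable {D X Y : Type u} [CommRing D] [Bialgebra R D] [CommRing X] [Algebra R X] [CommRing Y] [Algebra R Y]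

/-- The point of `Spec (D ⊗ X)` with given components. -/
noncomputable def pairPt {W : Over (Spec (CommRingCat.of R))} (t : W ⟶ pt R D) (s : W ⟶ pt R X) :
    W ⟶ pt R (D ⊗[R] X) :=
  ofFn (Algebra.TensorProduct.productMap (fnOf t) (fnOf s))

lemma comp_pairPt {W W' : Over (Spec (CommRingCat.of R))} (h : W' ⟶ W) (t : W ⟶ pt R D) (s : W ⟶ pt R X) :
    h ≫ pairPt t s = pairPt (h ≫ t) (h ≫ s) := by
  unfold pairPt
  rw [fnOf_comp, fnOf_comp, comp_ofFn]
  congr 1
  ext <;> simp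

lemma fnOf_pairPt {W : Over (Spec (CommRingCat.of R))} (t : W ⟶ pt R D) (s : W ⟶ pt R X) :
    fnOf (pairPt t s) = Algebra.TensorProduct.productMap (fnOf t) (fnOf s) :=
  fnOf_ofFn _

variable (R D X) in
/-- first projection -/
noncomputable def prD : pt R (D ⊗[R] X) ⟶ pt R D :=
  ptMap (Algebra.TensorProduct.includeLeft : D →ₐ[R] D ⊗[R] X)

variable (R D X) in
/-- second projection -/
noncomputable def prX : pt R (D ⊗[R] X) ⟶ pt R X :=
  ptMap (Algebra.TensorProduct.includeRight : X →ₐ[R] D ⊗[R] X)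

lemma pairPt_prD {W : Over (Spec (CommRingCat.of R))} (t : W ⟶ pt R D) (s : W ⟶ pt R X) :
    pairPt t s ≫ prD R D X = t := by
  apply fnOf_injective
  rw [prD, fnOf_ptMap, fnOf_pairPt]
  ext; simp

lemma pairPt_prX {W : Over (Spec (CommRingCat.of R))} (t : W ⟶ pt R D) (s : W ⟶ pt R X) :
    pairPt t s ≫ prX R D X = s := by
  apply fnOf_injective
  rw [prX, fnOf_ptMap, fnOf_pairPt]
  ext; simp

lemma eq_pairPt {W : Over (Spec (CommRingCat.of R))} (p : W ⟶ pt R (D ⊗[R] X)) :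
    p = pairPt (p ≫ prD R D X) (p ≫ prX R D X) := by
  apply fnOf_injective
  rw [fnOf_pairPt, prD, prX, fnOf_ptMap, fnOf_ptMap]
  refine Algebra.TensorProduct.ext' fun d x => ?_
  rw [Algebra.TensorProduct.productMap_apply_tmul, AlgHom.comp_apply, AlgHom.comp_apply, ← map_mul]
  simp

lemma pair_ext {W : Over (Spec (CommRingCat.of R))} {p q : W ⟶ pt R (D ⊗[R] X)}
    (h₁ : p ≫ prD R D X = q ≫ prD R D X) (h₂ : p ≫ prX R D X = q ≫ prX R D X) : p = q := by
  rw [eq_pairPt p, eq_pairPt q, h₁, h₂]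

lemma prD_T (h : X →ₐ[R] Y) : ptMap (T D h) ≫ prD R D X = prD R D Y := by
  unfold prD
  rw [ptMap_comp]
  congr 1
  ext; simp

lemma prX_T (h : X →ₐ[R] Y) : ptMap (T D h) ≫ prX R D X = prX R D Y ≫ ptMap h := by
  unfold prX
  rw [ptMap_comp, ptMap_comp]
  congr 1

lemma pairPt_T (h : X →ₐ[R] Y) {W : Over (Spec (CommRingCat.of R))} (t : W ⟶ pt R D) (s : W ⟶ pt R Y) :
    pairPt t s ≫ ptMap (T D h) = pairPt t (s ≫ ptMap h) := by
  apply pair_ext
  · rw [Category.assoc, prD_T, pairPt_prD, pairPt_prD]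
  · rw [Category.assoc, prX_T, ← Category.assoc, pairPt_prX, pairPt_prX]

lemma pairPt_cst {W : Over (Spec (CommRingCat.of R))} (t : W ⟶ pt R D) (s : W ⟶ pt R X) :
    pairPt t s ≫ ptMap (cst R D X) = s := pairPt_prX t s

end pair

section homs

variable {D X Y : Type u} [CommRing D] [Bialgebra R D] [CommRing X] [Algebra R X] [CommRing Y] [Algebra R Y]

lemma pairPt_δ {W : Over (Spec (CommRingCat.of R))} (t₁ t₂ t : W ⟶ pt R D) (s : W ⟶ pt R X)
    (ht : fnOf t = (WithConv.toConv (fnOf t₁) * WithConv.toConv (fnOf t₂)).ofConv) :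
    pairPt t₁ (pairPt t₂ s) ≫ ptMap (δ R D X) = pairPt t s := by
  apply fnOf_injective
  rw [fnOf_ptMap, fnOf_pairPt, fnOf_pairPt, fnOf_pairPt, ht]
  refine Algebra.TensorProduct.ext' fun d x => ?_
  have h1 : ∀ z : D ⊗[R] D, Algebra.TensorProduct.productMap (fnOf t₁)
      (Algebra.TensorProduct.productMap (fnOf t₂) (fnOf s)) (Algebra.TensorProduct.assoc R R R D D X (z ⊗ₜ x)) =
      Algebra.TensorProduct.productMap (fnOf t₁) (fnOf t₂) z * fnOf s x := by
    intro z
    induction z using TensorProduct.induction_on with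
    | zero => simp
    | tmul a b => simp [_root_.mul_assoc]
    | add a b ha hb => rw [TensorProduct.add_tmul, map_add, map_add, map_add, ha, hb, add_mul]
  rw [AlgHom.comp_apply, δ_tmul, h1, Algebra.TensorProduct.productMap_apply_tmul]
  congr 1
  have h2 : (Coalgebra.comul (R := R) d : D ⊗[R] D) = Bialgebra.comulAlgHom R D d := rfl
  rw [h2]
  exact (AlgHom.convMul_apply (WithConv.toConv (fnOf t₁)) (WithConv.toConv (fnOf t₂)) d).symm

variable {G : Over (Spec (CommRingCat.of R))} [GrpObj G]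

lemma isHomPt_iff {E : Over (Spec (CommRingCat.of R))} [GrpObj E] (e : E ≅ pt R D) (he : IsModel e)
    (F : pt R (D ⊗[R] X) ⟶ G) : 
    IsHomPt F ↔ ∀ (W : Over (Spec (CommRingCat.of R))) (t₁ t₂ : W ⟶ E) (s : W ⟶ pt R X),
      pairPt ((t₁ * t₂) ≫ e.hom) s ≫ F = (pairPt (t₁ ≫ e.hom) s ≫ F) * (pairPt (t₂ ≫ e.hom) s ≫ F) := by
  constructor
  · intro h W t₁ t₂ s
    have h1 := congrArg (fun z => pairPt (t₁ ≫ e.hom) (pairPt (t₂ ≫ e.hom) s) ≫ z) h
    simp only [MonObj.comp_mul, ← Category.assoc] at h1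
    rw [pairPt_T, pairPt_cst, pairPt_cst, pairPt_δ _ _ _ s (he W t₁ t₂)] at h1
    exact h1.symm
  · intro h
    let W := pt R (D ⊗[R] (D ⊗[R] X))
    let t₁ : W ⟶ E := prD R D (D ⊗[R] X) ≫ e.inv
    let t₂ : W ⟶ E := prX R D (D ⊗[R] X) ≫ prD R D X ≫ e.inv
    let s : W ⟶ pt R X := prX R D (D ⊗[R] X) ≫ prX R D X
    have h0 := h W t₁ t₂ s
    have e0 : pairPt (t₁ ≫ e.hom) (pairPt (t₂ ≫ e.hom) s) = 𝟙 W := by
      apply pair_ext
      · rw [pairPt_prD, Category.id_comp]
        simp [t₁]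
      · rw [pairPt_prX, Category.id_comp]
        apply pair_ext
        · rw [pairPt_prD]
          simp [t₂]
        · rw [pairPt_prX]
    have e1 : ptMap (T D (cst R D X)) = pairPt (t₁ ≫ e.hom) s := by
      rw [← Category.id_comp (ptMap (T D (cst R D X))), ← e0, pairPt_T, pairPt_cst]
    have e2 : ptMap (cst R D (D ⊗[R] X)) = pairPt (t₂ ≫ e.hom) s := by
      rw [← Category.id_comp (ptMap (cst R D (D ⊗[R] X))), ← e0, pairPt_cst]
    have e3 : ptMap (δ R D X) = pairPt ((t₁ * t₂) ≫ e.hom) s := by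
      rw [← Category.id_comp (ptMap (δ R D X)), ← e0, pairPt_δ _ _ _ s (he W t₁ t₂)]
    unfold IsHomPt
    rw [e1, e2, e3]
    exact h0.symm

/-- The family attached to a point. -/
noncomputable def famOf {E : Over (Spec (CommRingCat.of R))} (e : E ≅ pt R D) (F : pt R (D ⊗[R] X) ⟶ G) :
    E ⊗ pt R X ⟶ G :=
  pairPt (fst E (pt R X) ≫ e.hom) (snd E (pt R X)) ≫ F

/-- The point attached to a family. -/
noncomputable def toPt {E : Over (Spec (CommRingCat.of R))} (e : E ≅ pt R D) (a : E ⊗ pt R X ⟶ G) :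
    pt R (D ⊗[R] X) ⟶ G :=
  lift (prD R D X ≫ e.inv) (prX R D X) ≫ a

lemma lift_famOf {E : Over (Spec (CommRingCat.of R))} (e : E ≅ pt R D) (F : pt R (D ⊗[R] X) ⟶ G)
    {W : Over (Spec (CommRingCat.of R))} (t : W ⟶ E) (s : W ⟶ pt R X) :
    lift t s ≫ famOf e F = pairPt (t ≫ e.hom) s ≫ F := by
  rw [famOf, ← Category.assoc, comp_pairPt, ← Category.assoc, lift_fst, lift_snd]

lemma pairPt_toPt {E : Over (Spec (CommRingCat.of R))} (e : E ≅ pt R D) (a : E ⊗ pt R X ⟶ G)
    {W : Over (Spec (CommRingCat.of R))} (t : W ⟶ E) (s : W ⟶ pt R X) :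
    pairPt (t ≫ e.hom) s ≫ toPt e a = lift t s ≫ a := by
  rw [toPt, ← Category.assoc, comp_lift, ← Category.assoc, pairPt_prD, pairPt_prX, Category.assoc,
    Iso.hom_inv_id, Category.comp_id]

lemma famOf_toPt {E : Over (Spec (CommRingCat.of R))} (e : E ≅ pt R D) (a : E ⊗ pt R X ⟶ G) :
    famOf e (toPt e a) = a := by
  rw [famOf, pairPt_toPt, lift_fst_snd, Category.id_comp]

lemma toPt_famOf {E : Over (Spec (CommRingCat.of R))} (e : E ≅ pt R D) (F : pt R (D ⊗[R] X) ⟶ G) :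
    toPt e (famOf e F) = F := by
  rw [toPt, lift_famOf, Category.assoc, Iso.inv_hom_id, Category.comp_id]
  conv_rhs => rw [← Category.id_comp F]
  congr 1
  apply pair_ext
  · rw [pairPt_prD, Category.id_comp]
  · rw [pairPt_prX, Category.id_comp]

lemma isHomFamily_famOf_iff {E : Over (Spec (CommRingCat.of R))} [GrpObj E] (e : E ≅ pt R D) (he : IsModel e)
    (F : pt R (D ⊗[R] X) ⟶ G) : AutFam.IsHomFamily E G (famOf e F) ↔ IsHomPt F := by
  rw [isHomPt_iff e he]
  refine forall_congr' fun W => forall_congr' fun t₁ => forall_congr' fun t₂ => forall_congr' fun s => ?_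
  rw [lift_famOf, lift_famOf, lift_famOf]

lemma isHomPt_toPt_iff {E : Over (Spec (CommRingCat.of R))} [GrpObj E] (e : E ≅ pt R D) (he : IsModel e)
    (a : E ⊗ pt R X ⟶ G) : IsHomPt (toPt e a) ↔ AutFam.IsHomFamily E G a := by
  rw [← isHomFamily_famOf_iff e he, famOf_toPt]

lemma toPt_pull {E : Over (Spec (CommRingCat.of R))} (e : E ≅ pt R D) (a : E ⊗ pt R X ⟶ G) (π : X →ₐ[R] Y) :
    toPt e ((E ◁ ptMap π) ≫ a) = ptMap (T D π) ≫ toPt e a := by
  rw [toPt, toPt, ← Category.assoc, ← Category.assoc, lift_whiskerLeft, comp_lift, ← Category.assoc, prD_T, prX_T]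

lemma toPt_injective {E : Over (Spec (CommRingCat.of R))} (e : E ≅ pt R D) {a b : E ⊗ pt R X ⟶ G}
    (h : toPt e a = toPt e b) : a = b := by
  rw [← famOf_toPt e a, h, famOf_toPt]

end homs

section main

variable {D X Y : Type u} [CommRing D] [Bialgebra R D] [CommRing X] [Algebra R X] [CommRing Y] [Algebra R Y]
variable {G : Over (Spec (CommRingCat.of R))} [GrpObj G] [IsSeparated G.hom]
  (B : CommRingCat.{u}) (j : Spec B ⟶ G.left) [IsOpenImmersion j]
    (hj : Set.range (MonObj.one (X := G)).left ⊆ Set.range j)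
variable {E : Over (Spec (CommRingCat.of R))} [GrpObj E] (e : E ≅ pt R D) (he : IsModel e)

include hj he in
/-- Families of homomorphisms lift along nilpotent thickenings. -/
theorem exists_lift_family [Smooth G.hom] (ν : Haar R D) {π : X →ₐ[R] Y} (hπ : Function.Surjective π)
    (hK : IsNilpotent (RingHom.ker π)) {a₀ : E ⊗ pt R Y ⟶ G} (h₀ : AutFam.IsHomFamily E G a₀) :
    ∃ a : E ⊗ pt R X ⟶ G, AutFam.IsHomFamily E G a ∧ (E ◁ ptMap π) ≫ a = a₀ := by
  obtain ⟨F, hF, hF'⟩ := exists_lift_of_nilpotent B j hj ν hπ hK ((isHomPt_toPt_iff e he a₀).mpr h₀)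
  refine ⟨famOf e F, (isHomFamily_famOf_iff e he F).mpr hF, toPt_injective e ?_⟩
  rw [toPt_pull, toPt_famOf, hF']

include hj he in
/-- Families of homomorphisms which agree modulo a square-zero ideal are conjugate. -/
theorem exists_conj_family (ν : Haar R D) {π : X →ₐ[R] Y} (hπ : Function.Surjective π)
    (hK : (RingHom.ker π) ^ 2 = ⊥) {a b : E ⊗ pt R X ⟶ G} (ha : AutFam.IsHomFamily E G a)
    (hb : AutFam.IsHomFamily E G b) (hab : (E ◁ ptMap π) ≫ a = (E ◁ ptMap π) ≫ b) :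
    ∃ g : pt R X ⟶ G, ptMap π ≫ g = 1 ∧
      ∀ (W : Over (Spec (CommRingCat.of R))) (t : W ⟶ E) (s : W ⟶ pt R X),
        lift t s ≫ b = (s ≫ g) * (lift t s ≫ a) * (s ≫ g)⁻¹ := by
  obtain ⟨g, hg, hg'⟩ := exists_conj B j hj ν hπ hK ((isHomPt_toPt_iff e he a).mpr ha)
    ((isHomPt_toPt_iff e he b).mpr hb) (by rw [← toPt_pull, ← toPt_pull, hab])
  refine ⟨g, hg, fun W t s => ?_⟩
  have h := congrArg (fun z => pairPt (t ≫ e.hom) s ≫ z) hg'
  simp only [MonObj.comp_mul, GrpObj.comp_inv, pairPt_toPt, ← Category.assoc, pairPt_cst] at h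
  exact h

include hj he in
/-- Rigidity for families. -/
theorem eq_one_family (ν : Haar R D) {π : X →ₐ[R] Y} (hπ : Function.Surjective π)
    (hK : IsNilpotent (RingHom.ker π)) {a : E ⊗ pt R X ⟶ G} (ha : AutFam.IsHomFamily E G a)
    (h : (E ◁ ptMap π) ≫ a = 1) : a = 1 := by
  have h1 := eq_one_of_nilpotent B j hj ν hπ hK ((isHomPt_toPt_iff e he a).mpr ha) (by
    rw [← toPt_pull, h, toPt, MonObj.comp_one])
  rw [← famOf_toPt e a, h1, famOf, MonObj.comp_one]

end main

end Groth.Agent.Sga3.H802.HomFam
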