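import Groth.Agent.Localalg.GrpSchComp2
import Groth.Agent.Sga3C.ArtinBase
import Groth.Agent.Sga3B.DSPts

/-!
# Group schemes over an artinian local ring are separated
-/

set_option autoImplicit false
universe u
open CategoryTheory MonoidalCategory CartesianMonoidalCategory MonObj AlgebraicGeometry Limits

namespace Groth.Agent.Sga3.H802.SepArt

section

variable (A : Type u) [CommRing A] [IsLocalRing A]

/-- The closed point. -/
noncomputable abbrev res : Spec (CommRingCat.of (IsLocalRing.ResidueField A)) ⟶ Spec (CommRingCat.of A) :=
  Spec.map (CommRingCat.ofHom (algebraMap A (IsLocalRing.ResidueField A)))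

instance : IsClosedImmersion (res A) := IsClosedImmersion.spec_of_surjective _ IsLocalRing.residue_surjective

variable [IsArtinianRing A]

instance : Subsingleton (Spec (CommRingCat.of A)) := by
  constructor
  intro x y
  have h : ∀ z : Spec (CommRingCat.of A), z.asIdeal = IsLocalRing.maximalIdeal A := fun z =>
    IsLocalRing.eq_maximalIdeal (IsArtinianRing.isMaximal_of_isPrime z.asIdeal)
  exact PrimeSpectrum.ext ((h x).trans (h y).symm)

instance : Surjective (res A) := ⟨fun x => ⟨IsLocalRing.closedPoint _, Subsingleton.elim _ _⟩⟩

end

variable {A : Type u} [CommRing A] [IsLocalRing A] [IsArtinianRing A]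

theorem isSeparated (G : Over (Spec (CommRingCat.of A))) [GrpObj G] : IsSeparated G.hom := by
  have h0 : IsClosedImmersion (MonObj.one (X := G)).left := by
    let Gk := Red.bc (res A) G
    let p : Gk.left ⟶ G.left := pullback.fst G.hom (res A)
    have hp : IsClosedImmersion p := inferInstance
    have h1 : (MonObj.one (X := Gk)).left ≫ p = res A ≫ (MonObj.one (X := G)).left := by
      have e1 : (MonObj.one (X := Gk)) = Groth.Agent.Sga3B.DSPts.bcEquiv (res A) (𝟙_ _) G 1 := by
        rw [map_one, Hom.one_def]
        simp
      rw [e1]
      refine (Groth.Agent.Sga3B.DSPts.bcEquiv_fst (res A) (𝟙_ _) G 1).trans ?_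
      rw [Hom.one_def, Over.comp_left]
      congr 1
    have h2 : Set.range (MonObj.one (X := G)).left = p '' Set.range (MonObj.one (X := Gk)).left := by
      rw [← Set.range_comp]
      have e2 : p.base ∘ (MonObj.one (X := Gk)).left.base = (MonObj.one (X := G)).left.base ∘ (res A).base := by
        have := congrArg (fun f => (f.base : _ → _)) h1
        simpa using this
      change _ = Set.range (p.base ∘ (MonObj.one (X := Gk)).left.base)
      rw [e2, Set.range_comp, Set.range_eq_univ.mpr (res A).surjective, Set.image_univ]
    have h3 : IsClosed (Set.range (MonObj.one (X := Gk)).left) := by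
      have : IsClosedImmersion (MonObj.one (X := Gk)).left := inferInstance
      exact (MonObj.one (X := Gk)).left.isClosedEmbedding.isClosed_range
    have h4 : IsClosed (Set.range (MonObj.one (X := G)).left) := by
      rw [h2]
      exact p.isClosedEmbedding.isClosedMap _ h3
    have h5 : IsImmersion (MonObj.one (X := G)).left := by
      have : IsImmersion ((MonObj.one (X := G)).left ≫ G.hom) := by
        rw [Over.w]
        exact inferInstanceAs (IsImmersion (𝟙 _))
      exact IsImmersion.of_comp _ G.hom
    exact IsClosedImmersion.of_isPreimmersion _ h4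
  exact ⟨MorphismProperty.of_isPullback (P := @IsClosedImmersion)
    (Groth.Agent.Localalg.GrpSchComp2.isPullback_diagonal _ G).flip h0⟩

end Groth.Agent.Sga3.H802.SepArt
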