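import Groth.Agent.Sga3.H802.HaarBC
import Groth.Agent.Sga3B.TorusEtLoc920
import Groth.Agent.Sga3A.LiftNil
import Groth.Agent.Sga3B.AlgBc2

/-!
# Tori over an artinian local ring

* `exists_haar_of_isTorus`: a torus `Spec D` over an artinian local ring has an invariant integral;
* `exists_torus_lift`: a torus over the residue field lifts.
-/

set_option autoImplicit false
universe u
open CategoryTheory MonoidalCategory CartesianMonoidalCategory AlgebraicGeometry Limits
open TensorProduct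
open Groth.Agent.Books.AffBridge Groth.Agent.Sga3A Groth.Agent.Sga3A.MTBasis

namespace Groth.Agent.Sga3.H802.TorAlg
open Groth.Agent.Sga3B Groth.Agent.Sga3B.HaarDef Groth.Agent.Sga3.H802.HaarBC

lemma faithfullyFlat_of_mem_range {A B : Type u} [CommRing A] [IsLocalRing A] [CommRing B] [Algebra A B]
    [Module.Flat A B]
    (h : IsLocalRing.closedPoint A ∈ Set.range (Spec.map (CommRingCat.ofHom (algebraMap A B)))) :
    Module.FaithfullyFlat A B := by
  rw [Module.FaithfullyFlat.iff_flat_and_ideal_smul_eq_top]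
  refine ⟨inferInstance, fun I hI => ?_⟩
  by_contra hne
  have hle : I ≤ IsLocalRing.maximalIdeal A := IsLocalRing.le_maximalIdeal hne
  obtain ⟨q, hq⟩ := h
  have hq' : q.asIdeal.comap (algebraMap A B) = IsLocalRing.maximalIdeal A := congrArg PrimeSpectrum.asIdeal hq
  have h1 : I.map (algebraMap A B) = ⊤ := by
    rw [Ideal.smul_top_eq_map] at hI
    exact (Submodule.restrictScalars_eq_top_iff A B _).mp hI
  have h2 : I.map (algebraMap A B) ≤ q.asIdeal := by
    rw [Ideal.map_le_iff_le_comap, hq']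
    exact hle
  rw [h1] at h2
  exact q.2.ne_top (top_le_iff.mp h2)

/-- A quasi-compact surjective morphism satisfies the fpqc covering condition of the definition of tori. -/
lemma fpqc_cond {S S' : Scheme.{u}} (f : S' ⟶ S) [QuasiCompact f] [Surjective f] (V : S.Opens) (hV : IsAffineOpen V) :
    ∃ W : S'.Opens, IsCompact (W : Set S') ∧ f.base '' (W : Set S') = (V : Set S) :=
  ⟨f ⁻¹ᵁ V, (QuasiCompact.isCompact_preimage (f := f) (V : Set S) V.2 hV.isCompact),
    Set.image_preimage_eq _ f.surjective⟩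

/-- A group which becomes a split torus after a flat surjective quasi-compact base change is a torus. -/
lemma isTorus_of_split {S S' : Scheme.{u}} (f : S' ⟶ S) [Flat f] [QuasiCompact f] [Surjective f] {T : Over S}
    [GrpObj T] {r : ℕ} (h : Red.IsSplitTorusWith (Fin r → ℤ) (Red.bc f T)) : Red.IsTorus T :=
  AlgBc.isTorus_of_bc f (fpqc_cond f)
    ⟨S', 𝟙 S', inferInstance, inferInstance, fun V hV => ⟨V, hV.isCompact, by simp⟩, fun s' =>
      ⟨⊤, trivial, r, TorusAlgClosed.isSplitTorusWith_bc _ h⟩⟩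

variable {A : Type u} [CommRing A] [IsArtinianRing A] [IsLocalRing A]

theorem exists_haar_of_isTorus {D : Type u} [CommRing D] [HopfAlgebra A D]
    (h : Red.IsTorus (SpecOver A D)) : Nonempty (Haar A D) := by
  obtain ⟨B, _, v, r, hv, hs, hsp⟩ := TorusEtLoc920.exists_etale_split_specOver h (IsLocalRing.closedPoint A)
  let φ : CommRingCat.of A ⟶ CommRingCat.of B := Spec.preimage v
  let _ : Algebra A B := φ.hom.toAlgebra
  have hφ : Spec.map (CommRingCat.ofHom (algebraMap A B)) = v := Spec.map_preimage _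
  rw [← hφ] at hv hs hsp
  have h1 : Algebra.Etale A B := by
    rw [HasRingHomProperty.Spec_iff (P := @Etale)] at hv
    simp only [CommRingCat.hom_ofHom] at hv
    exact RingHom.etale_algebraMap.mp hv
  have h2 : Module.FaithfullyFlat A B := faithfullyFlat_of_mem_range hs
  obtain ⟨g⟩ := (TorusEtLoc920.isSplit_iff r).mp hsp
  obtain ⟨ρ, hρ⟩ := exists_retraction A B
  exact ⟨haarOfRetraction (haarOfEquiv g.bialgEquiv.symm (haarMonoidAlgebra _)) ρ hρ⟩

lemma isNilpotent_of_residue (x : A) (hx : algebraMap A (IsLocalRing.ResidueField A) x = 0) : IsNilpotent x := by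
  have h1 : x ∈ IsLocalRing.maximalIdeal A := Ideal.Quotient.eq_zero_iff_mem.mp hx
  have h2 : IsNilpotent (IsLocalRing.maximalIdeal A) := by
    rw [← IsLocalRing.jacobson_eq_maximalIdeal ⊥ bot_ne_top]
    exact IsArtinianRing.isNilpotent_jacobson_bot
  obtain ⟨n, hn⟩ := h2
  refine ⟨n, ?_⟩
  have := Ideal.pow_mem_pow h1 n
  rw [hn] at this
  exact this

/-- **Lifting of tori.** A torus over the residue field of an artinian local ring lifts. -/
theorem exists_hopf_lift {A₀ : Type u} [CommRing A₀] [HopfAlgebra (IsLocalRing.ResidueField A) A₀]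
    (hT₀ : Red.IsTorus (SpecOver (IsLocalRing.ResidueField A) A₀)) :
    ∃ (D : Type u) (_ : CommRing D) (_ : HopfAlgebra A D), Red.IsTorus (SpecOver A D) ∧
      Nonempty ((IsLocalRing.ResidueField A) ⊗[A] D ≃ₐc[IsLocalRing.ResidueField A] A₀) := by
  let k := IsLocalRing.ResidueField A
  have hs : Function.Surjective (algebraMap A k) := IsLocalRing.residue_surjective
  have hn : ∀ x : A, algebraMap A k x = 0 → IsNilpotent x := isNilpotent_of_residue
  obtain ⟨B₀, _, v, r, hv, hsv, hsp⟩ := TorusEtLoc920.exists_etale_split_specOver hT₀ (IsLocalRing.closedPoint k)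
  let φ : CommRingCat.of k ⟶ CommRingCat.of B₀ := Spec.preimage v
  let _ : Algebra k B₀ := φ.hom.toAlgebra
  have hφ : Spec.map (CommRingCat.ofHom (algebraMap k B₀)) = v := Spec.map_preimage _
  rw [← hφ] at hv hsv hsp
  have h1 : Algebra.Etale k B₀ := by
    rw [HasRingHomProperty.Spec_iff (P := @Etale)] at hv
    simp only [CommRingCat.hom_ofHom] at hv
    exact RingHom.etale_algebraMap.mp hv
  have h2 : Module.FaithfullyFlat k B₀ := faithfullyFlat_of_mem_range hsv
  obtain ⟨g⟩ := (TorusEtLoc920.isSplit_iff r).mp hsp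
  obtain ⟨B, iB, iAB, hB, ⟨b⟩⟩ := Groth.Agent.Proet.EtaleLiftLoc.exists_etale_lift A k B₀
    (fun s => ⟨1, isUnit_one, fun x _ => by rw [_root_.one_mul]; exact hs x⟩)
  let _ : Algebra A B₀ := ((algebraMap k B₀).comp (algebraMap A k)).toAlgebra
  have : IsScalarTower A k B₀ := IsScalarTower.of_algebraMap_eq fun _ => rfl
  have hflat : Module.Flat A B := inferInstance
  let β : B →ₐ[A] B₀ := ((b : k ⊗[A] B →ₐ[k] B₀).restrictScalars A).comp Algebra.TensorProduct.includeRight
  have hff : Module.FaithfullyFlat A B := LiftNil.faithfullyFlat_of_square (Q := k) (R' := B₀) hn hs β.toRingHom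
    (fun p => β.commutes p)
  have hff' : Module.FaithfullyFlat A (∀ _ : PUnit.{u+1}, B) := 
    Module.FaithfullyFlat.of_linearEquiv _ _ (LinearEquiv.funUnique PUnit.{u+1} A B)
  obtain ⟨D, iD, iH, h3, h4⟩ := LiftMain.exists_lift (R := A) (R₀ := k) (A₀ := A₀) (ι := PUnit.{u+1})
    (S := fun _ => B) (M := fun _ => TorusEtLoc920.Mu.{u} r) (fun _ => g.bc (b.symm : B₀ →ₐ[k] k ⊗[A] B))
    (fun i => LiftNil.idemLift_of_nil hn hs _)
    (fun i j => LiftNil.idemLift_of_nil hn hs _)
    (fun i j k => LiftNil.idemLift_of_nil hn hs _)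
  refine ⟨D, iD, iH, ?_, h4⟩
  obtain ⟨e⟩ := h3 PUnit.unit
  have h5 : Red.IsSplitTorusWith (Fin r → ℤ) (Red.bc (Spec.map (CommRingCat.ofHom (algebraMap A B))) (SpecOver A D)) :=
    (TorusEtLoc920.isSplit_iff r).mpr ⟨GBasis.ofBialgEquiv e⟩
  have h6 : Flat (Spec.map (CommRingCat.ofHom (algebraMap A B))) := by
    rw [HasRingHomProperty.Spec_iff (P := @Flat)]
    simp only [CommRingCat.hom_ofHom]
    exact RingHom.flat_algebraMap_iff.mpr hflat
  have h7 : Surjective (Spec.map (CommRingCat.ofHom (algebraMap A B))) :=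
    ⟨PrimeSpectrum.comap_surjective_of_faithfullyFlat⟩
  exact isTorus_of_split _ h5

/-- Lifting of tori, in terms of group schemes. -/
theorem exists_torus_lift (T₀ : Over (Spec (CommRingCat.of (IsLocalRing.ResidueField A)))) [GrpObj T₀]
    (hT₀ : Red.IsTorus T₀) :
    ∃ (D : Type u) (_ : CommRing D) (_ : HopfAlgebra A D), Red.IsTorus (SpecOver A D) ∧
      Nonempty (Grp.mk (Red.bc (Spec.map (CommRingCat.ofHom (algebraMap A (IsLocalRing.ResidueField A))))
        (SpecOver A D)) ≅ Grp.mk T₀) := by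
  have haff : IsAffine T₀.left := by
    have := TorusAlgClosed.isAffineHom_of_isTorus hT₀
    exact isAffine_of_isAffineHom T₀.hom
  obtain ⟨A₀, _, _, e, he⟩ := exists_hopf _ T₀
  have h1 : Red.IsTorus (SpecOver (IsLocalRing.ResidueField A) A₀) := TorusBc.isTorus_of_iso (Grp.mkIso' e) hT₀
  obtain ⟨D, _, _, hD, ⟨ε⟩⟩ := exists_hopf_lift h1
  obtain ⟨e₁⟩ := Hens.Dict.bc_specOver A D (IsLocalRing.ResidueField A)
  obtain ⟨e₂⟩ := (Hens.Dict.nonempty_bialgEquiv _ _ _).mpr ⟨ε⟩
  exact ⟨D, _, _, hD, ⟨e₁ ≪≫ e₂ ≪≫ (Grp.mkIso' e).symm⟩⟩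

end Groth.Agent.Sga3.H802.TorAlg
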