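import Groth.Agent.Sga3.H802.HomFam
import Groth.Agent.Sga3.H802.TorAlg
import Groth.Agent.Sga3.H802.SepArt
import Groth.Agent.Sga3B.LocalLift

/-!
# Homomorphisms from tori to smooth groups over an artinian local ring

`A` artinian local with residue field `k`, `E` a torus over `A`, `G` a group scheme over `A`.

* `exists_hom_lift` : `G` smooth; a homomorphism `E_k → G_k` lifts to `E → G`;
* `eq_one_of_res`: a homomorphism `E → G` which is trivial over `k` is trivial.
-/

set_option autoImplicit false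
universe u
open CategoryTheory MonoidalCategory CartesianMonoidalCategory MonObj AlgebraicGeometry Limits

namespace Groth.Agent.Sga3.H802.LiftTor
open Groth.Agent.Sga3B Groth.Agent.Sga3B.InfConj Groth.Agent.Sga3B.BcPts Groth.Agent.Sga3B.IsoFam
open Groth.Agent.Sga3.H802.HomFam Groth.Agent.Sga3.H802.SepArt
open Groth.Agent.Books.AffBridge
open Groth.Agent.Sga3B.HaarDef (Haar)

section unfam

variable {S S' : Scheme.{u}} {f : S' ⟶ S} {X Y : Over S}

/-- Evaluation at a point coming from `S'`. -/
lemma ev_st (φ : Red.bc f X ⟶ Red.bc f Y) {W : Over S'} (x : (Over.map f).obj W ⟶ X) :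
    ev φ x (Over.homMk W.hom : (Over.map f).obj W ⟶ Over.mk f) = (bcEquiv f W Y).symm (bcEquiv f W X x ≫ φ) := by
  have h : overIso (Over.homMk W.hom : (Over.map f).obj W ⟶ Over.mk f) = Iso.refl _ := by
    ext1
    ext1
    rfl
  unfold ev
  rw [h]
  simp
  rfl

/-- A morphism is the base change of `u` if it agrees with `u` on all points coming from `S'`. -/
lemma map_eq_of_ev {u : X ⟶ Y} {φ : Red.bc f X ⟶ Red.bc f Y}
    (h : ∀ (W : Over S') (x : (Over.map f).obj W ⟶ X),
      x ≫ u = ev φ x (Over.homMk W.hom : (Over.map f).obj W ⟶ Over.mk f)) :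
    (Over.pullback f).map u = φ := by
  apply (bcEquiv f (Red.bc f X) Y).symm.injective
  have h1 := bcEquiv_symm_comp f (𝟙 (Red.bc f X)) u
  rw [Category.id_comp] at h1
  rw [h1, h, ev_st, Equiv.apply_symm_apply, Category.id_comp]

end unfam

section

variable {A : Type u} [CommRing A] [IsLocalRing A] [IsArtinianRing A]

/-- the structure morphism to `pt A A` -/
noncomputable def toPtA (E : Over (Spec (CommRingCat.of A))) : E ⟶ pt A A := Over.homMk E.hom (by
  simp only [Over.mk_hom]
  rw [show (algebraMap A A) = RingHom.id A from rfl]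
  erw [Spec.map_id, Category.comp_id])

/-- the data attached to a torus over `A` -/
lemma exists_model {E : Over (Spec (CommRingCat.of A))} [GrpObj E] (hE : Red.IsTorus E) :
    ∃ (D : Type u) (_ : CommRing D) (_ : HopfAlgebra A D) (e : E ≅ pt A D), IsModel e ∧ Nonempty (Haar A D) := by
  have haff : IsAffine E.left := by
    have := TorusAlgClosed.isAffineHom_of_isTorus hE
    exact isAffine_of_isAffineHom E.hom
  obtain ⟨D, _, _, e, he⟩ := exists_hopf A E
  have h1 : Red.IsTorus (SpecOver A D) := TorusBc.isTorus_of_iso (Grp.mkIso' e) hE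
  exact ⟨D, inferInstance, inferInstance, e, isModel_of_isMonHom e, TorAlg.exists_haar_of_isTorus h1⟩

lemma isNilpotent_maximalIdeal : IsNilpotent (IsLocalRing.maximalIdeal A) := by
  rw [← IsLocalRing.jacobson_eq_maximalIdeal ⊥ bot_ne_top]
  exact IsArtinianRing.isNilpotent_jacobson_bot

omit [IsArtinianRing A] in
lemma ker_ofId : RingHom.ker (Algebra.ofId A (IsLocalRing.ResidueField A)) = IsLocalRing.maximalIdeal A :=
  Ideal.mk_ker

variable {E G : Over (Spec (CommRingCat.of A))} [GrpObj E] [GrpObj G]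

/-- **Lifting of homomorphisms** from tori to smooth groups over an artinian local ring. -/
theorem exists_hom_lift [Smooth G.hom] (hE : Red.IsTorus E) (u₀ : Red.bc (res A) E ⟶ Red.bc (res A) G)
    [IsMonHom u₀] : ∃ u : E ⟶ G, IsMonHom u ∧ (Over.pullback (res A)).map u = u₀ := by
  obtain ⟨D, _, _, e, he, ⟨ν⟩⟩ := exists_model hE
  have hsep : IsSeparated G.hom := isSeparated G
  obtain ⟨B, j, hj, hj'⟩ := LocalLift.hasAffineUnitNhd_of_isLocalRing G
  obtain ⟨a, ha, ha'⟩ := exists_lift_family B j hj' e he (X := A) (Y := IsLocalRing.ResidueField A)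
    (π := Algebra.ofId A (IsLocalRing.ResidueField A)) ν IsLocalRing.residue_surjective
    (by rw [ker_ofId]; exact isNilpotent_maximalIdeal) (isHomFamily_fam (f := res A) u₀)
  refine ⟨lift (𝟙 E) (toPtA E) ≫ a, ?_, ?_⟩
  · refine IsoFam.isMonHom_of_mul _ fun W x y => ?_
    simp only [← Category.assoc, comp_lift, Category.comp_id]
    rw [ha]
    rw [pt_self_hom_ext (x ≫ toPtA E) ((x * y) ≫ toPtA E), pt_self_hom_ext (y ≫ toPtA E) ((x * y) ≫ toPtA E)]
  · refine map_eq_of_ev fun W x => ?_
    have h1 : x ≫ toPtA E = (Over.homMk W.hom : (Over.map (res A)).obj W ⟶ Over.mk (res A)) ≫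
      (ptMap (Algebra.ofId A (IsLocalRing.ResidueField A))) := pt_self_hom_ext _ _
    rw [← Category.assoc, comp_lift, Category.comp_id, h1, ← lift_fam, ← ha', ← Category.assoc,
      lift_whiskerLeft]

/-- **Rigidity.** -/
theorem eq_one_of_res (hE : Red.IsTorus E) (u : E ⟶ G) [IsMonHom u]
    (h : (Over.pullback (res A)).map u = 1) : u = 1 := by
  obtain ⟨D, _, _, e, he, ⟨ν⟩⟩ := exists_model hE
  have hsep : IsSeparated G.hom := isSeparated G
  obtain ⟨B, j, hj, hj'⟩ := LocalLift.hasAffineUnitNhd_of_isLocalRing G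
  have ha : AutFam.IsHomFamily E G (fst E (pt A A) ≫ u) := by
    intro W x y t
    rw [← Category.assoc, ← Category.assoc, ← Category.assoc, lift_fst, lift_fst, lift_fst, MonObj.mul_comp]
  have h1 : (E ◁ ptMap (Algebra.ofId A (IsLocalRing.ResidueField A))) ≫ (fst E (pt A A) ≫ u) = 1 := by
    rw [← Category.assoc, whiskerLeft_fst]
    let t : E ⊗ Over.mk (res A) ⟶ Over.mk (res A) := snd E (Over.mk (res A))
    have h2 : ((overIso t).hom ≫ fst E (Over.mk (res A))) ≫ u = 1 := by
      apply (bcEquiv (res A) _ G).injective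
      rw [bcEquiv_comp, h, MonObj.comp_one, bcEquiv_one]
    rw [Category.assoc] at h2
    have h3 : fst E (Over.mk (res A)) ≫ u = (overIso t).inv ≫ (overIso t).hom ≫ fst E (Over.mk (res A)) ≫ u := by
      rw [Iso.inv_hom_id_assoc]
    exact h3.trans (by rw [h2, MonObj.comp_one])
  have h2 := eq_one_family B j hj' e he (X := A) (Y := IsLocalRing.ResidueField A)
    (π := Algebra.ofId A (IsLocalRing.ResidueField A)) ν IsLocalRing.residue_surjective
    (by rw [ker_ofId]; exact isNilpotent_maximalIdeal) ha h1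
  have h3 : u = lift (𝟙 E) (toPtA E) ≫ (fst E (pt A A) ≫ u) := by
    rw [← Category.assoc, lift_fst, Category.id_comp]
  rw [h3, h2, MonObj.comp_one]

end

end Groth.Agent.Sga3.H802.LiftTor
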