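import Groth.Agent.Sga3.H802.LiftTor
import Groth.Agent.Sga3B.AlgBc2
import Groth.Agent.S3042

/-!
# Lifting of maximal tori along an artinian local ring

* `mono_of_res` : a morphism locally of finite type is a monomorphism if its reduction is;
* `isMaximalTorus_of_bc`, `exists_maximalTorus_lift`.
-/

set_option autoImplicit false
universe u
open CategoryTheory MonoidalCategory CartesianMonoidalCategory MonObj AlgebraicGeometry Limits

namespace Groth.Agent.Sga3.H802.MaxLift
open Groth.Agent.Sga3B Groth.Agent.Sga3B.RedIso Groth.Agent.Sga3B.AlgBc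
open Groth.Agent.Sga3.H802.SepArt Groth.Agent.Sga3.H802.LiftTor
open Groth.Agent.Books.AffBridge

variable {A : Type u} [CommRing A] [IsLocalRing A] [IsArtinianRing A]

/-- A point of `Spec A` with values in a reduced ring comes from the residue field. -/
lemma exists_factor_res {K : CommRingCat.{u}} [IsReduced K] (q : Spec K ⟶ Spec (CommRingCat.of A)) :
    ∃ h : Spec K ⟶ Spec (CommRingCat.of (IsLocalRing.ResidueField A)), h ≫ res A = q := by
  let φ : CommRingCat.of A ⟶ K := Spec.preimage q
  have hφ : Spec.map φ = q := Spec.map_preimage _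
  have h1 : ∀ a ∈ IsLocalRing.maximalIdeal A, φ.hom a = 0 := by
    intro a ha
    have h2 : IsNilpotent a := TorAlg.isNilpotent_of_residue a (Ideal.Quotient.eq_zero_iff_mem.mpr ha)
    exact (h2.map φ.hom).eq_zero
  refine ⟨Spec.map (CommRingCat.ofHom (Ideal.Quotient.lift (IsLocalRing.maximalIdeal A) φ.hom h1)), ?_⟩
  rw [← hφ, ← Spec.map_comp]
  congr 1

/-- Monomorphisms can be tested on the special fibre. -/
theorem mono_of_res {X Y : Over (Spec (CommRingCat.of A))} (u : X ⟶ Y) [LocallyOfFiniteType u.left]
    (h : Mono ((Over.pullback (res A)).map u)) : Mono u := by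
  have h0 : Mono ((Over.pullback (res A)).map u).left := inferInstance
  suffices Mono u.left from Over.mono_of_mono_left u
  rw [Groth.Agent.S3042.result]
  intro y
  obtain ⟨q, hq⟩ := exists_factor_res (Y.left.fromSpecResidueField y ≫ Y.hom)
  change Mono (pullback.snd u.left (Y.left.fromSpecResidueField y))
  constructor
  intro Z a b hab
  have hc := pullback.condition (f := u.left) (g := Y.left.fromSpecResidueField y)
  have hw : ∀ d : Z ⟶ pullback u.left (Y.left.fromSpecResidueField y), (d ≫ pullback.fst _ _) ≫ X.hom =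
      ((d ≫ pullback.snd _ _) ≫ q) ≫ res A := by
    intro d
    rw [Category.assoc, Category.assoc, Category.assoc, hq, ← Over.w u, ← Category.assoc (pullback.fst _ _), hc,
      Category.assoc]
  let l : ∀ d : Z ⟶ pullback u.left (Y.left.fromSpecResidueField y), Z ⟶ ((Over.pullback (res A)).obj X).left :=
    fun d => pullback.lift (d ≫ pullback.fst _ _) ((d ≫ pullback.snd _ _) ≫ q) (hw d)
  have hl1 : ∀ d, l d ≫ pullback.fst X.hom (res A) = d ≫ pullback.fst _ _ := fun d => pullback.lift_fst _ _ _
  have hl2 : ∀ d, l d ≫ pullback.snd X.hom (res A) = (d ≫ pullback.snd _ _) ≫ q := fun d => pullback.lift_snd _ _ _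
  have hm1 : ((Over.pullback (res A)).map u).left ≫ pullback.fst Y.hom (res A) = pullback.fst X.hom (res A) ≫ u.left := by
    exact pullback.lift_fst _ _ _
  have hm2 : ((Over.pullback (res A)).map u).left ≫ pullback.snd Y.hom (res A) = pullback.snd X.hom (res A) := by
    exact pullback.lift_snd _ _ _
  have hl : l a = l b := by
    rw [← cancel_mono ((Over.pullback (res A)).map u).left]
    apply pullback.hom_ext
    · rw [Category.assoc, Category.assoc, hm1, ← Category.assoc, ← Category.assoc, hl1, hl1, Category.assoc,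
        Category.assoc, hc, ← Category.assoc, ← Category.assoc, hab]
    · rw [Category.assoc, Category.assoc, hm2, hl2, hl2, hab]
  apply pullback.hom_ext
  · rw [← hl1, hl, hl1]
  · exact hab

variable {T G : Over (Spec (CommRingCat.of A))} [GrpObj T] [GrpObj G]

/-- Maximality can be tested over the residue field. -/
theorem isMaximalTorus_of_bc (i : T ⟶ G) [IsMonHom i] [Mono i] (hT : Red.IsTorus T)
    (h : ∀ s : Spec (CommRingCat.of (IsLocalRing.ResidueField A)),
      IsMaxTorOver ((Over.pullback (Red.geomPt s)).map ((Over.pullback (res A)).map i))) :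
    Red.IsMaximalTorus i := by
  refine ⟨inferInstance, inferInstance, hT, fun s => ?_⟩
  obtain ⟨s', rfl⟩ := (res A).surjective s
  exact (isMaxTorOver_geomFibre_bc_iff (res A) s').mp (h s')

/-- **Lifting of maximal tori** over an artinian local ring. -/
theorem exists_maximalTorus_lift [Smooth G.hom]
    {T₀ : Over (Spec (CommRingCat.of (IsLocalRing.ResidueField A)))} [GrpObj T₀] (i₀ : T₀ ⟶ Red.bc (res A) G)
    (h : Red.IsMaximalTorus i₀) :
    ∃ (T : Over (Spec (CommRingCat.of A))) (_ : GrpObj T) (i : T ⟶ G), Red.IsMaximalTorus i := by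
  obtain ⟨hm, hmo, hT₀, -⟩ := id h
  obtain ⟨D, _, _, hD, ⟨ε⟩⟩ := TorAlg.exists_torus_lift T₀ hT₀
  obtain ⟨u, hu, hu'⟩ := exists_hom_lift hD ((und ε).hom ≫ i₀)
  have hlft : LocallyOfFiniteType u.left := by
    have h1 : Smooth (SpecOver A D).hom := TorusAlgClosed.smooth_of_isTorus hD
    have h2 : LocallyOfFiniteType (u.left ≫ G.hom) := by rw [Over.w]; infer_instance
    exact locallyOfFiniteType_of_comp u.left G.hom
  have hmono : Mono u := mono_of_res u (by rw [hu']; infer_instance)
  have h3 : Red.IsMaximalTorus ((Over.pullback (res A)).map u) := by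
    refine isMaximalTorus_of_arrow (i := i₀) ε.symm (Iso.refl _) ?_ h
    rw [hu', BcNat.und_symm, Iso.inv_hom_id_assoc]
    exact Category.comp_id _
  exact ⟨SpecOver A D, inferInstance, u, isMaximalTorus_of_bc u hD h3.2.2.2⟩

end Groth.Agent.Sga3.H802.MaxLift
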